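import Groth.Agent.NormFin.SchemeCurve

/-!
# The normalization of an integral curve in a finite extension of its function field
-/

set_option autoImplicit false

universe u

open CategoryTheory Limits AlgebraicGeometry

namespace NormFinLib

/-- A prime of a domain integral over a subring, lying over a prime with one-dimensional local
ring, has one-dimensional local ring. -/
theorem ringKrullDim_localization_of_isIntegral {A D : Type u} [CommRing A] [IsDomain A]
    [CommRing D] [IsDomain D] [Algebra A D] [Algebra.IsIntegral A D]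
    (hinj : Function.Injective (algebraMap A D)) (P : Ideal D) [P.IsPrime]
    (h : ringKrullDim (Localization.AtPrime (P.comap (algebraMap A D))) = 1) :
    ringKrullDim (Localization.AtPrime P) = 1 := by
  let m := P.comap (algebraMap A D)
  let Am := Localization.AtPrime m
  have : IsDomain Am :=
    IsLocalization.isDomain_of_le_nonZeroDivisors Am m.primeCompl_le_nonZeroDivisors
  have : Ring.KrullDimLE 1 Am := Ring.krullDimLE_iff.mpr h.le
  have hm0 : m ≠ ⊥ := fun h0 ↦ by
    have : IsField Am := by
      rw [IsLocalRing.isField_iff_maximalIdeal_eq, ← IsLocalization.map_comap m.primeCompl Am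
        (IsLocalRing.maximalIdeal Am)]
      rw [Localization.AtPrime.under_maximalIdeal]
      exact (congrArg (Ideal.map (algebraMap A Am)) h0).trans Ideal.map_bot
    rw [ringKrullDim_eq_zero_of_isField this] at h
    exact zero_ne_one h
  have hbelow : ∀ Q : Ideal D, Q.IsPrime → Q < P → Q = ⊥ := by
    intro Q hQ hQP
    have hlt : Q.comap (algebraMap A D) < m := Ideal.IsIntegral.comap_lt_comap hQP
    apply Ideal.eq_bot_of_comap_eq_bot (R := A)
    by_contra hne
    have hdisj : Disjoint (m.primeCompl : Set A) (Q.comap (algebraMap A D)) :=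
      Set.disjoint_left.mpr fun x hx hxQ ↦ hx (hlt.le hxQ)
    have hp : ((Q.comap (algebraMap A D)).map (algebraMap A Am)).IsPrime :=
      IsLocalization.isPrime_of_isPrime_disjoint m.primeCompl Am _ inferInstance hdisj
    have hne' : (Q.comap (algebraMap A D)).map (algebraMap A Am) ≠ ⊥ := fun h0 ↦ hne (by
      rw [← IsLocalization.comap_map_of_isPrime_disjoint m.primeCompl Am
        (inferInstanceAs (Q.comap (algebraMap A D)).IsPrime) hdisj, Ideal.under_def, h0,
        Ideal.comap_bot_of_injective _
          (IsLocalization.injective Am m.primeCompl_le_nonZeroDivisors)])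
    have h2 := congrArg (Ideal.comap (algebraMap A Am))
      (IsLocalRing.eq_maximalIdeal (hp.isMaximal_of_ne_bot hne'))
    rw [← Ideal.under_def, ← Ideal.under_def,
      IsLocalization.comap_map_of_isPrime_disjoint m.primeCompl Am
        (inferInstanceAs (Q.comap (algebraMap A D)).IsPrime) hdisj] at h2
    exact hlt.ne (h2.trans Localization.AtPrime.under_maximalIdeal)
  let DP := Localization.AtPrime P
  have hP0 : P ≠ ⊥ := fun h0 ↦ hm0 (by
    show P.comap _ = ⊥
    rw [h0, Ideal.comap_bot_of_injective _ hinj])
  have : IsDomain DP :=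
    IsLocalization.isDomain_of_le_nonZeroDivisors DP P.primeCompl_le_nonZeroDivisors
  rw [ringKrullDim_eq_one_iff_of_isLocalRing_isDomain]
  constructor
  · intro hf
    have h1 := IsLocalRing.isField_iff_maximalIdeal_eq.mp hf
    have h2 : (IsLocalRing.maximalIdeal DP).comap (algebraMap D DP) = P :=
      Localization.AtPrime.under_maximalIdeal
    rw [h1, Ideal.comap_bot_of_injective _
      (IsLocalization.injective DP P.primeCompl_le_nonZeroDivisors)] at h2
    exact hP0 h2.symm
  · intro x hx
    rw [Ideal.radical_eq_sInf]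
    refine le_sInf fun J ⟨hxJ, hJ⟩ ↦ ?_
    by_contra hle
    have hJlt : J.comap (algebraMap D DP) < P := by
      refine lt_of_le_of_ne
        ((Ideal.comap_mono (IsLocalRing.le_maximalIdeal hJ.ne_top)).trans_eq
          Localization.AtPrime.under_maximalIdeal) fun e ↦ hle ?_
      rw [← IsLocalization.map_comap P.primeCompl DP J, Ideal.under_def, e,
        Localization.AtPrime.map_eq_maximalIdeal]
    have hJ0 := hbelow _ inferInstance hJlt
    apply hx
    rw [← Ideal.mem_bot, ← Ideal.map_bot (f := algebraMap D DP), ← hJ0, ← Ideal.under_def,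
      IsLocalization.map_comap P.primeCompl DP J]
    exact hxJ (Ideal.mem_span_singleton_self x)

/-- The ring of a chart of the normalization of an integral scheme in a field extension. -/
theorem exists_chart_equiv {X : Scheme.{u}} [IsIntegral X] (K : Type u) [Field K]
    (φ : X.functionField →+* K) (g : Spec (CommRingCat.of K) ⟶ X)
    (hg : g = Spec.map (CommRingCat.ofHom φ) ≫ X.fromSpecStalk (genericPoint X))
    (U : X.Opens) (hU : IsAffineOpen U) [Nonempty U] :
    ∃ e : Γ(Spec (CommRingCat.of K), g ⁻¹ᵁ U) ≃+* K,
      ∀ a : Γ(X, U), e ((g.app U).hom a) = φ ((X.germToFunctionField U).hom a) := by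
  have htop : g ⁻¹ᵁ U = ⊤ := by
    refine eq_top_iff.mpr fun x _ ↦ ?_
    show g x ∈ U
    have hx : g x = genericPoint X := by
      rw [hg, Scheme.Hom.comp_apply]
      have : Subsingleton (Spec X.functionField) :=
        inferInstanceAs (Subsingleton (PrimeSpectrum X.functionField))
      rw [Subsingleton.elim (Spec.map (CommRingCat.ofHom φ) x) (IsLocalRing.closedPoint _),
        Scheme.fromSpecStalk_closedPoint]
    rw [hx]
    exact ((genericPoint_spec X).mem_open_set_iff U.isOpen).mpr (by simpa using ‹Nonempty U›)
  let j : Γ(Spec (CommRingCat.of K), g ⁻¹ᵁ U) ≅ CommRingCat.of K :=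
    (Spec (CommRingCat.of K)).presheaf.mapIso (eqToIso htop.symm).op ≪≫
      Scheme.ΓSpecIso (CommRingCat.of K)
  refine ⟨j.commRingCatIsoToRingEquiv, fun a ↦ ?_⟩
  suffices g.app U ≫ j.hom = X.germToFunctionField U ≫ CommRingCat.ofHom φ from
    DFunLike.congr_fun (congrArg CommRingCat.Hom.hom this) a
  apply Spec.map_injective
  rw [← cancel_mono hU.fromSpec]
  have h1 : g.app U ≫ j.hom =
      g.appLE U ⊤ htop.ge ≫ (Scheme.ΓSpecIso (CommRingCat.of K)).hom := by
    simp [j, Scheme.Hom.appLE]
    congr 2
  have hη : genericPoint X ∈ U :=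
    ((genericPoint_spec X).mem_open_set_iff U.isOpen).mpr (by simpa using ‹Nonempty U›)
  rw [h1, Spec.map_comp, Category.assoc,
    IsAffineOpen.SpecMap_appLE_fromSpec g hU (isAffineOpen_top _) htop.ge,
    IsAffineOpen.fromSpec_top, Scheme.isoSpec_Spec_inv, ← Spec.map_comp_assoc,
    Iso.inv_hom_id, Spec.map_id, Category.id_comp, Spec.map_comp, Category.assoc]
  conv_lhs => rw [hg]
  congr 1
  rw [← hU.fromSpecStalk_eq_fromSpecStalk hη]
  rfl

theorem normalization_curve (k : Type u) [Field k] (X : Scheme.{u}) (s : X ⟶ Spec (CommRingCat.of k))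
    [LocallyOfFiniteType s] [IsIntegral X]
    (hX : ∀ x : X, IsClosed ({x} : Set X) → ringKrullDim (X.presheaf.stalk x) = 1)
    (K : Type u) [Field K] (φ : X.functionField →+* K) (hφ : φ.Finite)
    (g : Spec (CommRingCat.of K) ⟶ X)
    (hg : g = Spec.map (CommRingCat.ofHom φ) ≫ X.fromSpecStalk (genericPoint X))
    [QuasiCompact g] [QuasiSeparated g] :
    IsFinite g.fromNormalization ∧
      (∀ x' : g.normalization, IsDomain (g.normalization.presheaf.stalk x') ∧
        IsIntegrallyClosed (g.normalization.presheaf.stalk x')) ∧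
      ∀ x' : g.normalization, IsClosed ({x'} : Set g.normalization) →
        ringKrullDim (g.normalization.presheaf.stalk x') = 1 := by
  -- the rings of the charts
  have key : ∀ U : X.affineOpens,
      (g.normalizationDiagramMap.app (.op U.1)).hom.FiniteType ∧
      (Nonempty (PrimeSpectrum (g.normalizationDiagram.obj (.op U.1))) →
        IsDomain (g.normalizationDiagram.obj (.op U.1)) ∧
          IsIntegrallyClosed (g.normalizationDiagram.obj (.op U.1)) ∧
          Function.Injective (g.normalizationDiagramMap.app (.op U.1)).hom ∧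
          (g.normalizationDiagramMap.app (.op U.1)).hom.IsIntegral) := by
    intro U
    let M := Γ(Spec (CommRingCat.of K), g ⁻¹ᵁ U.1)
    let _ : Algebra Γ(X, U.1) M := (g.app U.1).hom.toAlgebra
    show (algebraMap Γ(X, U.1) (integralClosure Γ(X, U.1) M)).FiniteType ∧
      (Nonempty (PrimeSpectrum (integralClosure Γ(X, U.1) M)) →
        IsDomain (integralClosure Γ(X, U.1) M) ∧ IsIntegrallyClosed (integralClosure Γ(X, U.1) M) ∧
          Function.Injective (algebraMap Γ(X, U.1) (integralClosure Γ(X, U.1) M)) ∧
          (algebraMap Γ(X, U.1) (integralClosure Γ(X, U.1) M)).IsIntegral)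
    cases isEmpty_or_nonempty U.1 with
    | inl hemp =>
      have hbot : g ⁻¹ᵁ U.1 = ⊥ := eq_bot_iff.mpr fun x hx ↦ (hemp.false ⟨_, hx⟩).elim
      have : Subsingleton M := by
        show Subsingleton Γ(Spec (CommRingCat.of K), g ⁻¹ᵁ U.1)
        rw [hbot]
        infer_instance
      refine ⟨RingHom.FiniteType.of_surjective _ fun y ↦ ⟨0, Subsingleton.elim _ _⟩, ?_⟩
      rintro ⟨P⟩
      exact absurd ((Ideal.eq_top_iff_one _).mpr
        (Subsingleton.elim (0 : integralClosure Γ(X, U.1) M) 1 ▸ P.asIdeal.zero_mem)) P.2.ne_top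
    | inr hne =>
      obtain ⟨e, he⟩ := exists_chart_equiv K φ g hg U.1 U.2
      let A := Γ(X, U.1)
      have : IsDomain A := inferInstance
      let _ : Algebra A K := (φ.comp (X.germToFunctionField U.1).hom).toAlgebra
      let _ : Algebra X.functionField K := φ.toAlgebra
      have : IsScalarTower A X.functionField K := .of_algebraMap_eq fun _ ↦ rfl
      have : IsFractionRing A X.functionField := functionField_isFractionRing_of_isAffineOpen X _ U.2
      have : FiniteDimensional X.functionField K := hφ
      let c : A →+* A := RingHom.id A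
      let sU : (CommRingCat.of k : CommRingCat.{u}) ⟶ A :=
        (Scheme.ΓSpecIso (CommRingCat.of k)).inv ≫ s.appLE ⊤ U.1 (by simp)
      let _ : Algebra k A := sU.hom.toAlgebra
      have : Algebra.FiniteType k A := by
        show sU.hom.FiniteType
        simp only [sU, CommRingCat.hom_comp]
        exact (LocallyOfFiniteType.finiteType_appLE s (isAffineOpen_top _) U.2 (by simp)).comp
          (RingHom.FiniteType.of_surjective _
            (Scheme.ΓSpecIso (CommRingCat.of k)).symm.commRingCatIsoToRingEquiv.surjective)
      let ea : M ≃ₐ[A] K := AlgEquiv.ofRingEquiv (f := e) he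
      let ed : integralClosure A M ≃ₐ[A] integralClosure A K := ea.mapIntegralClosure
      have hfin : Module.Finite A (integralClosure A K) :=
        finite_integralClosure_of_finiteType_field k A X.functionField K
      have : Module.Finite A (integralClosure A M) := Module.Finite.equiv ed.symm.toLinearEquiv
      have : IsIntegrallyClosed (integralClosure A M) :=
        have : IsIntegrallyClosed (integralClosure A K) :=
          integralClosure.isIntegrallyClosedOfFiniteExtension X.functionField
        IsIntegrallyClosed.of_equiv ed.symm.toRingEquiv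
      have : IsDomain (integralClosure A M) := ed.toRingEquiv.toMulEquiv.isDomain _
      have hinj : Function.Injective (algebraMap A (integralClosure A M)) := by
        intro a b hab
        have h2 : algebraMap A K a = algebraMap A K b := by
          rw [← ea.commutes a, ← ea.commutes b]
          exact congrArg (fun z : integralClosure A M ↦ ea z.1) hab
        exact (X.germToFunctionField_injective U.1) (φ.injective h2)
      exact ⟨RingHom.finiteType_algebraMap.mpr inferInstance, fun _ ↦ ⟨inferInstance, inferInstance,
        hinj, algebraMap_isIntegral_iff.mpr inferInstance⟩⟩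
  refine ⟨?_, ?_, ?_⟩
  · refine (IsFinite.iff_isIntegralHom_and_locallyOfFiniteType _).mpr ⟨inferInstance, ?_⟩
    refine IsZariskiLocalAtSource.of_openCover (P := @LocallyOfFiniteType)
      g.normalizationOpenCover fun U₀ ↦ ?_
    obtain ⟨U, rfl⟩ : ∃ V : X.affineOpens, V = U₀ := ⟨U₀, rfl⟩
    rw [g.ι_fromNormalization U]
    exact MorphismProperty.comp_mem _ _ _ (HasRingHomProperty.Spec_iff.mpr (key U).1)
      (inferInstanceAs (LocallyOfFiniteType U.2.fromSpec))
  · intro x'
    obtain ⟨U₀, P, rfl⟩ := g.normalizationOpenCover.exists_eq x'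
    obtain ⟨U, rfl⟩ : ∃ V : X.affineOpens, V = U₀ := ⟨U₀, rfl⟩
    obtain ⟨hd, hn, -, -⟩ := (key U).2 ⟨P⟩
    let D := g.normalizationDiagram.obj (.op U.1)
    let P' : PrimeSpectrum D := P
    let e := (asIso ((g.normalizationOpenCover.f U).stalkMap P)).commRingCatIsoToRingEquiv.trans
      (stalkEquivLocalization D P')
    have : IsDomain (Localization.AtPrime P'.asIdeal) :=
      IsLocalization.isDomain_of_le_nonZeroDivisors _ P'.asIdeal.primeCompl_le_nonZeroDivisors
    have : IsIntegrallyClosed (Localization.AtPrime P'.asIdeal) :=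
      isIntegrallyClosed_of_isLocalization _ P'.asIdeal.primeCompl
        P'.asIdeal.primeCompl_le_nonZeroDivisors
    exact ⟨e.toMulEquiv.isDomain _, IsIntegrallyClosed.of_equiv e.symm⟩
  · intro x' hx'
    obtain ⟨U₀, P, rfl⟩ := g.normalizationOpenCover.exists_eq x'
    obtain ⟨U, rfl⟩ : ∃ V : X.affineOpens, V = U₀ := ⟨U₀, rfl⟩
    obtain ⟨hd, -, hinj, hint⟩ := (key U).2 ⟨P⟩
    have : Nonempty U.1 := ⟨⟨g.fromNormalization (g.normalizationOpenCover.f U P), by
      show g.normalizationOpenCover.f U P ∈ g.fromNormalization ⁻¹ᵁ U.1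
      rw [g.fromNormalization_preimage U]
      exact ⟨P, rfl⟩⟩⟩
    let D := g.normalizationDiagram.obj (.op U.1)
    let P' : PrimeSpectrum D := P
    let e := (asIso ((g.normalizationOpenCover.f U).stalkMap P)).commRingCatIsoToRingEquiv.trans
      (stalkEquivLocalization D P')
    rw [ringKrullDim_eq_of_ringEquiv e]
    let _ : Algebra Γ(X, U.1) D := (g.normalizationDiagramMap.app (.op U.1)).hom.toAlgebra
    have : Algebra.IsIntegral Γ(X, U.1) D := ⟨hint⟩
    refine ringKrullDim_localization_of_isIntegral (A := Γ(X, U.1)) hinj P'.asIdeal ?_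
    let Q : PrimeSpectrum Γ(X, U.1) :=
      ⟨P'.asIdeal.comap (g.normalizationDiagramMap.app (.op U.1)).hom, inferInstance⟩
    have hQ : g.fromNormalization (g.normalizationOpenCover.f U P) = U.2.fromSpec Q :=
      congrArg (fun m ↦ m.base P) (g.ι_fromNormalization U)
    have hclosed : IsClosed ({U.2.fromSpec Q} : Set X) := by
      rw [← hQ, ← Set.image_singleton]
      exact g.fromNormalization.isClosedMap _ hx'
    have hmem : U.2.fromSpec Q ∈ U.1 := by
      rw [← SetLike.mem_coe, ← U.2.range_fromSpec]
      exact Set.mem_range_self _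
    have h := hX _ hclosed
    let _ : Algebra Γ(X, U.1) (X.presheaf.stalk (U.2.fromSpec Q)) :=
      (X.presheaf.germ U.1 _ hmem).hom.toAlgebra
    have hloc : IsLocalization.AtPrime (X.presheaf.stalk (U.2.fromSpec Q)) Q.asIdeal :=
      U.2.isLocalization_stalk' Q hmem
    rw [← h]
    exact ringKrullDim_eq_of_ringEquiv
      (IsLocalization.algEquiv Q.asIdeal.primeCompl (Localization.AtPrime Q.asIdeal)
        (X.presheaf.stalk (U.2.fromSpec Q))).toRingEquiv

end NormFinLib
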