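import Mathlib

/-!
# Finiteness of integral closures for algebras of finite type over a field
-/

set_option autoImplicit false

universe u

open IntermediateField Polynomial

namespace NormFinLib

/-- An algebra map between integral closures which is injective transfers finiteness. -/
theorem finite_integralClosure_of_embedding {A B L M : Type*} [CommRing A] [IsNoetherianRing A]
    [CommRing B] [Algebra A B] [CommRing L] [CommRing M] [Algebra A L] [Algebra A M] [Algebra B M]
    [IsScalarTower A B M] (f : L →ₐ[A] M) (hf : Function.Injective f)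
    [Module.Finite A (integralClosure B M)] : Module.Finite A (integralClosure A L) := by
  let g : integralClosure A L →ₗ[A] integralClosure B M :=
    { toFun := fun x ↦ ⟨f x, (x.2.map f).tower_top⟩
      map_add' := fun x y ↦ Subtype.ext (map_add f _ _)
      map_smul' := fun a x ↦ Subtype.ext (map_smul f a _) }
  have : IsNoetherian A (integralClosure B M) := isNoetherian_of_isNoetherianRing_of_finite _ _
  exact Module.Finite.of_injective g fun x y h ↦ Subtype.ext (hf (congrArg Subtype.val h))

/-- A finite extension of fields is generated by a separable element and finitely many roots of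
exponential characteristic power order. -/
theorem exists_separable_and_roots (K L : Type u) [Field K] [Field L] [Algebra K L]
    [FiniteDimensional K L] (p : ℕ) [ExpChar K p] :
    ∃ (N : ℕ) (C₀ : Finset K) (θ : L), IsSeparable K θ ∧
      ∀ (Ω : Type u) [Field Ω] [Algebra K Ω] [Algebra L Ω] [IsScalarTower K L Ω]
        (M : IntermediateField K Ω), algebraMap L Ω θ ∈ M →
        (∀ c ∈ C₀, ∃ w ∈ M, w ^ p ^ N = algebraMap K Ω c) → ∀ x : L, algebraMap L Ω x ∈ M := by
  classical
  let Ls := separableClosure K L
  have : IsPurelyInseparable Ls L := separableClosure.isPurelyInseparable K L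
  have : ExpChar Ls p := expChar_of_injective_ringHom (algebraMap K Ls).injective p
  let b := Module.finBasis K L
  choose n hn using fun j ↦ IsPurelyInseparable.pow_mem Ls p (b j)
  let N := Finset.univ.sup n
  let q := p ^ N
  have hbq : ∀ j, ∃ s : Ls, (s : L) = b j ^ q := by
    intro j
    obtain ⟨s, hs⟩ := hn j
    refine ⟨s ^ p ^ (N - n j), ?_⟩
    have h1 : n j ≤ N := Finset.le_sup (Finset.mem_univ j)
    show algebraMap Ls L (s ^ p ^ (N - n j)) = _
    rw [map_pow, hs, ← pow_mul, ← pow_add, Nat.add_sub_cancel' h1]
  choose s hs using hbq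
  obtain ⟨θ, hθ⟩ := Field.exists_primitive_element K Ls
  have hθq : ∀ x : Ls, ∃ h : K[X], aeval (θ ^ q) h = x := by
    intro x
    have h0 : x ∈ K⟮θ ^ q⟯.toSubalgebra := by
      rw [mem_toSubalgebra, ← adjoin_simple_eq_adjoin_pow_expChar_pow_of_isSeparable' K Ls θ p N,
        hθ]
      trivial
    rw [adjoin_simple_toSubalgebra_of_isAlgebraic (Algebra.IsAlgebraic.isAlgebraic _),
      Algebra.adjoin_singleton_eq_range_aeval] at h0
    exact h0
  choose h hh using fun j ↦ hθq (s j)
  refine ⟨N, Finset.univ.biUnion fun j ↦ (h j).support.image (h j).coeff, θ,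
    mem_separableClosure_iff.mp θ.2, fun Ω _ _ _ _ M hθM hK x ↦ ?_⟩
  have : ExpChar Ω p := expChar_of_injective_ringHom (algebraMap K Ω).injective p
  have hb : ∀ j, algebraMap L Ω (b j) ∈ M := by
    intro j
    choose w hw hwq using fun i : (h j).support ↦ hK ((h j).coeff i)
      (Finset.mem_biUnion.mpr ⟨j, Finset.mem_univ _, Finset.mem_image_of_mem _ i.2⟩)
    have key : algebraMap L Ω (b j) =
        ∑ i : (h j).support, w i * algebraMap L Ω (θ : L) ^ (i : ℕ) := by
      apply iterateFrobenius_inj Ω p N
      simp only [iterateFrobenius_def, map_sum, mul_pow, hwq, ← pow_mul]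
      rw [← map_pow, ← hs j, ← hh j]
      show ((IsScalarTower.toAlgHom K L Ω).comp Ls.val) (aeval (θ ^ q) (h j)) = _
      rw [← aeval_algHom_apply, aeval_def, eval₂_eq_sum, sum_def, ← Finset.sum_coe_sort]
      refine Finset.sum_congr rfl fun i _ ↦ ?_
      simp [← pow_mul, mul_comm, q]
    rw [key]
    exact sum_mem fun i _ ↦ mul_mem (hw i) (pow_mem hθM _)
  rw [← b.sum_repr x, map_sum]
  refine sum_mem fun j _ ↦ ?_
  rw [Algebra.smul_def, map_mul, ← IsScalarTower.algebraMap_apply]
  exact mul_mem (M.algebraMap_mem _) (hb j)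

/-- Polynomial rings over a field are integrally closed. -/
theorem isIntegrallyClosed_mvPolynomial (σ : Type) (k : Type u) [Field k] :
    IsIntegrallyClosed (MvPolynomial σ k) := inferInstance

/-- Roots of exponential characteristic power order of finitely many coefficients and of the
variables are contained in a finite, integrally closed extension of a polynomial ring. -/
theorem exists_finite_normal_with_roots {σ : Type} [Finite σ] {k : Type u} [Field k]
    (Ω : Type u) [Field Ω] [IsAlgClosed Ω] [Algebra (MvPolynomial σ k) Ω]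
    (hinj : Function.Injective (algebraMap (MvPolynomial σ k) Ω)) (T : Finset k) (q : ℕ)
    (hq : 0 < q) :
    ∃ (D : Type u) (_ : CommRing D) (_ : IsDomain D) (_ : Algebra (MvPolynomial σ k) D)
      (ψ : D →ₐ[MvPolynomial σ k] Ω), Function.Injective ψ ∧
      Module.Finite (MvPolynomial σ k) D ∧ IsIntegrallyClosed D ∧
      (∀ i, ∃ w, ψ w ^ q = algebraMap (MvPolynomial σ k) Ω (MvPolynomial.X i)) ∧
      ∀ t ∈ T, ∃ w, ψ w ^ q = algebraMap (MvPolynomial σ k) Ω (MvPolynomial.C t) := by
  classical
  let aΩ : Algebra k Ω :=
    ((algebraMap (MvPolynomial σ k) Ω).comp MvPolynomial.C).toAlgebra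
  choose root hroot using fun a : Ω ↦ IsAlgClosed.exists_pow_nat_eq a hq
  let k' : IntermediateField k Ω := adjoin k (root '' (algebraMap k Ω '' (T : Set k)))
  have : FiniteDimensional k k' := by
    have : Finite (root '' (algebraMap k Ω '' (T : Set k))) :=
      ((T.finite_toSet.image _).image _).to_subtype
    refine finiteDimensional_adjoin ?_
    rintro _ ⟨_, ⟨t, -, rfl⟩, rfl⟩
    exact IsIntegral.of_pow hq (by rw [hroot]; exact isIntegral_algebraMap)
  let φ : MvPolynomial σ k →+* MvPolynomial σ k' :=
    MvPolynomial.eval₂Hom (MvPolynomial.C.comp (algebraMap k k')) fun i ↦ MvPolynomial.X i ^ q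
  let ψ₀ : MvPolynomial σ k' →+* Ω := MvPolynomial.eval₂Hom (algebraMap k' Ω)
    fun i ↦ root (algebraMap (MvPolynomial σ k) Ω (MvPolynomial.X i))
  have hψφ : ∀ f, ψ₀ (φ f) = algebraMap (MvPolynomial σ k) Ω f := by
    refine RingHom.congr_fun (f := ψ₀.comp φ) ?_
    apply MvPolynomial.ringHom_ext
    · intro c
      simp only [ψ₀, φ, RingHom.comp_apply, MvPolynomial.eval₂Hom_C]
      rfl
    · intro i
      simp only [ψ₀, φ, RingHom.comp_apply, MvPolynomial.eval₂Hom_X', map_pow, hroot]
  let _ : Algebra (MvPolynomial σ k) (MvPolynomial σ k') := φ.toAlgebra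
  let ψ : MvPolynomial σ k' →ₐ[MvPolynomial σ k] Ω := { ψ₀ with commutes' := hψφ }
  have : IsScalarTower k (MvPolynomial σ k) (MvPolynomial σ k') := .of_algebraMap_eq fun c ↦
    (MvPolynomial.eval₂Hom_C _ _ _).symm
  have : Algebra.IsIntegral (MvPolynomial σ k) (MvPolynomial σ k') := by
    refine ⟨fun f ↦ ?_⟩
    induction f using MvPolynomial.induction_on with
    | C c =>
      exact ((Algebra.IsIntegral.isIntegral (R := k) c).map
        (IsScalarTower.toAlgHom k k' (MvPolynomial σ k'))).tower_top
    | add f g hf hg => exact hf.add hg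
    | mul_X f i hf =>
      refine hf.mul (IsIntegral.of_pow hq ?_)
      have : φ (MvPolynomial.X i) = (MvPolynomial.X i : MvPolynomial σ k') ^ q :=
        MvPolynomial.eval₂Hom_X' _ _ _
      rw [← this]
      exact isIntegral_algebraMap
  have : Algebra.FiniteType k (MvPolynomial σ k') :=
    Algebra.FiniteType.trans (S := k') inferInstance inferInstance
  have : Algebra.FiniteType (MvPolynomial σ k) (MvPolynomial σ k') :=
    Algebra.FiniteType.of_restrictScalars_finiteType k _ _
  have : Module.Finite (MvPolynomial σ k) (MvPolynomial σ k') := Algebra.IsIntegral.finite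
  have hψ : Function.Injective ψ := by
    show Function.Injective ψ₀
    rw [RingHom.injective_iff_ker_eq_bot]
    refine Ideal.eq_bot_of_comap_eq_bot (R := MvPolynomial σ k) ?_
    rw [RingHom.comap_ker, ← RingHom.injective_iff_ker_eq_bot]
    intro f g e
    exact hinj (by rw [← hψφ, ← hψφ]; exact e)
  refine ⟨MvPolynomial σ k', inferInstance, inferInstance, inferInstance, ψ, hψ, inferInstance,
    isIntegrallyClosed_mvPolynomial σ k', fun i ↦ ⟨MvPolynomial.X i, ?_⟩,
    fun t ht ↦ ⟨MvPolynomial.C ⟨_, subset_adjoin k _ ⟨_, ⟨t, ht, rfl⟩, rfl⟩⟩, ?_⟩⟩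
  · show ψ₀ (MvPolynomial.X i) ^ q = _
    simp only [ψ₀, MvPolynomial.eval₂Hom_X', hroot]
  · show ψ₀ (MvPolynomial.C _) ^ q = _
    simp only [ψ₀, MvPolynomial.eval₂Hom_C]
    exact hroot _

/-- A finite extension embeds in a separable extension of a normal finite algebra. -/
theorem finite_integralClosure_of_normal_extension (P K L Ω D : Type u) [CommRing P] [IsDomain P]
    [IsNoetherianRing P] [Field K] [Algebra P K] [IsFractionRing P K] [Field L] [Algebra P L]
    [Algebra K L] [IsScalarTower P K L] [Field Ω] [Algebra P Ω] [Algebra K Ω] [Algebra L Ω]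
    [IsScalarTower P K Ω] [IsScalarTower P L Ω] [IsScalarTower K L Ω]
    [CommRing D] [IsDomain D] [Algebra P D] [Algebra D Ω] [IsScalarTower P D Ω]
    [Module.Finite P D] [IsIntegrallyClosed D] (hD : Function.Injective (algebraMap D Ω))
    (θ : L) (hθ : IsSeparable K θ)
    (hgen : ∀ M : IntermediateField K Ω, algebraMap L Ω θ ∈ M →
      (∀ d, algebraMap D Ω d ∈ M) → ∀ x : L, algebraMap L Ω x ∈ M) :
    Module.Finite P (integralClosure P L) := by
  have : IsNoetherianRing D := IsNoetherianRing.of_finite P D
  have hinj : Function.Injective (algebraMap P Ω) := by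
    rw [IsScalarTower.algebraMap_eq P K Ω]
    exact (algebraMap K Ω).injective.comp (IsFractionRing.injective P K)
  let K' := FractionRing D
  let _ : Algebra K' Ω := (IsFractionRing.lift hD).toAlgebra
  have : IsScalarTower D K' Ω := .of_algebraMap_eq fun x ↦
    (IsFractionRing.lift_algebraMap hD x).symm
  have : IsScalarTower P K' Ω := .to₁₃₄ P D K' Ω
  have hPK' : Function.Injective (algebraMap P K') := fun x y e ↦ hinj (by
    rw [IsScalarTower.algebraMap_apply P K' Ω, e, ← IsScalarTower.algebraMap_apply P K' Ω])
  let _ : Algebra K K' := (IsFractionRing.lift hPK').toAlgebra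
  have : IsScalarTower P K K' := .of_algebraMap_eq fun x ↦
    (IsFractionRing.lift_algebraMap hPK' x).symm
  have : IsScalarTower K K' Ω := .of_algebraMap_eq' <| IsLocalization.ringHom_ext
    (nonZeroDivisors P) <| by
      rw [RingHom.comp_assoc, ← IsScalarTower.algebraMap_eq P K K',
        ← IsScalarTower.algebraMap_eq, ← IsScalarTower.algebraMap_eq]
  let θΩ : Ω := algebraMap L Ω θ
  have hθsep : IsSeparable K θΩ := hθ.map (IsScalarTower.toAlgHom K L Ω) (RingHom.injective _)
  let L' := K'⟮θΩ⟯
  have : FiniteDimensional K' L' := adjoin.finiteDimensional (hθsep.tower_top K').isIntegral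
  have : Algebra.IsSeparable K' L' :=
    (isSeparable_adjoin_simple_iff_isSeparable K' Ω).mpr (hθsep.tower_top K')
  have : IsScalarTower P K' L' := IsScalarTower.of_algebraMap_eq fun x ↦
    Subtype.ext (IsScalarTower.algebraMap_apply P K' Ω x)
  have : IsScalarTower P D L' := .of_algebraMap_eq fun x ↦ by
    rw [IsScalarTower.algebraMap_apply P K' L', IsScalarTower.algebraMap_apply P D K',
      ← IsScalarTower.algebraMap_apply D K' L']
  have : IsScalarTower P L' Ω := .of_algebraMap_eq fun x ↦ by
    rw [IsScalarTower.algebraMap_apply P K' L', ← IsScalarTower.algebraMap_apply K' L' Ω,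
      ← IsScalarTower.algebraMap_apply P K' Ω]
  have : Module.Finite D (integralClosure D L') :=
    IsIntegralClosure.finite D K' L' (integralClosure D L')
  have : Module.Finite P (integralClosure D L') := Module.Finite.trans D _
  have hL : ∀ x : L, algebraMap L Ω x ∈ L' := by
    refine hgen (L'.restrictScalars K) (mem_adjoin_simple_self K' θΩ) fun d ↦ ?_
    show algebraMap D Ω d ∈ L'
    rw [IsScalarTower.algebraMap_apply D K' Ω]
    exact L'.algebraMap_mem _
  let f : L →ₐ[P] L' :=
    { toRingHom := (algebraMap L Ω).codRestrict L'.toSubring hL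
      commutes' := fun r ↦ Subtype.ext (by
        show algebraMap L Ω (algebraMap P L r) = algebraMap L' Ω (algebraMap P L' r)
        rw [← IsScalarTower.algebraMap_apply, ← IsScalarTower.algebraMap_apply]) }
  exact finite_integralClosure_of_embedding (B := D) f f.toRingHom.injective

/-- The integral closure of a polynomial ring over a field in a finite extension of its fraction
field is finite. -/
theorem finite_integralClosure_mvPolynomial {σ : Type} [Finite σ] {k : Type u} [Field k]
    (L : Type u) [Field L] [Algebra (MvPolynomial σ k) L]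
    [Algebra (FractionRing (MvPolynomial σ k)) L]
    [IsScalarTower (MvPolynomial σ k) (FractionRing (MvPolynomial σ k)) L]
    [FiniteDimensional (FractionRing (MvPolynomial σ k)) L] :
    Module.Finite (MvPolynomial σ k) (integralClosure (MvPolynomial σ k) L) := by
  classical
  let P := MvPolynomial σ k
  let K := FractionRing P
  let Ω := AlgebraicClosure L
  let p := ringExpChar K
  have : ExpChar K p := inferInstanceAs (ExpChar K (ringExpChar K))
  have : ExpChar Ω p := expChar_of_injective_ringHom (algebraMap K Ω).injective p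
  obtain ⟨N, C₀, θ, hθ, hgen⟩ := exists_separable_and_roots K L p
  choose num den hden hfrac using fun c : K ↦ IsFractionRing.div_surjective P c
  let T : Finset k :=
    (C₀.image num ∪ C₀.image den).biUnion fun f ↦ f.support.image f.coeff
  have hinj : Function.Injective (algebraMap P Ω) := by
    rw [IsScalarTower.algebraMap_eq P K Ω]
    exact (algebraMap K Ω).injective.comp (IsFractionRing.injective P K)
  obtain ⟨D, _, _, _, ψ, hψ, _, _, hX, hT⟩ := exists_finite_normal_with_roots Ω hinj T (p ^ N)
    (pow_pos (expChar_pos K p) N)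
  let _ : Algebra D Ω := ψ.toRingHom.toAlgebra
  have : IsScalarTower P D Ω := .of_algebraMap_eq fun x ↦ (ψ.commutes x).symm
  let F := iterateFrobenius Ω p N
  let S : Subring Ω := ψ.toRingHom.range.map F
  have hPS : ∀ f : P, (∀ m ∈ f.support, f.coeff m ∈ T) → algebraMap P Ω f ∈ S := by
    intro f hf
    rw [f.as_sum, map_sum]
    refine sum_mem fun m hm ↦ ?_
    rw [MvPolynomial.monomial_eq, map_mul]
    refine mul_mem ?_ ?_
    · obtain ⟨w, e⟩ := hT _ (hf m hm)
      exact ⟨ψ w, ⟨w, rfl⟩, (iterateFrobenius_def p N _).trans e⟩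
    rw [Finsupp.prod, map_prod]
    refine prod_mem fun i _ ↦ ?_
    rw [map_pow]
    obtain ⟨w, e⟩ := hX i
    refine pow_mem ?_ _
    exact ⟨ψ w, ⟨w, rfl⟩, (iterateFrobenius_def p N _).trans e⟩
  refine finite_integralClosure_of_normal_extension P K L Ω D hψ θ hθ fun M hθM hDM ↦
    hgen Ω M hθM fun c hc ↦ ?_
  obtain ⟨_, ⟨a, rfl⟩, hae⟩ := hPS (num c) fun m hm ↦ Finset.mem_biUnion.mpr
    ⟨num c, Finset.mem_union_left _ (Finset.mem_image_of_mem _ hc),
      Finset.mem_image_of_mem _ hm⟩
  obtain ⟨_, ⟨d, rfl⟩, hde⟩ := hPS (den c) fun m hm ↦ Finset.mem_biUnion.mpr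
    ⟨den c, Finset.mem_union_right _ (Finset.mem_image_of_mem _ hc),
      Finset.mem_image_of_mem _ hm⟩
  refine ⟨_, div_mem (hDM a) (hDM d), ?_⟩
  rw [iterateFrobenius_def] at hae hde
  rw [div_pow]
  show ψ.toRingHom a ^ _ / ψ.toRingHom d ^ _ = _
  rw [hae, hde]
  conv_rhs => rw [← hfrac c, map_div₀]
  rw [← IsScalarTower.algebraMap_apply, ← IsScalarTower.algebraMap_apply]

/-- The integral closure of a domain of finite type over a field in a finite extension of its
fraction field is finite. -/
theorem finite_integralClosure_of_finiteType_field (k A K L : Type u) [Field k] [CommRing A]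
    [IsDomain A] [Algebra k A] [Algebra.FiniteType k A] [Field K] [Field L] [Algebra A K]
    [IsFractionRing A K] [Algebra K L] [FiniteDimensional K L] [Algebra A L]
    [IsScalarTower A K L] : Module.Finite A (integralClosure A L) := by
  obtain ⟨s, g, hg, hfin⟩ := exists_finite_inj_algHom_of_fg k A
  let P := MvPolynomial (Fin s) k
  let _ : Algebra P A := g.toRingHom.toAlgebra
  have : Module.Finite P A := hfin
  let _ : Algebra P L := ((algebraMap A L).comp (algebraMap P A)).toAlgebra
  have : IsScalarTower P A L := .of_algebraMap_eq fun _ ↦ rfl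
  let _ : Algebra P K := ((algebraMap A K).comp (algebraMap P A)).toAlgebra
  have : IsScalarTower P A K := .of_algebraMap_eq fun _ ↦ rfl
  have : IsScalarTower P K L := .to₁₃₄ P A K L
  let K₀ := FractionRing P
  have hPK : Function.Injective (algebraMap P K) := by
    rw [IsScalarTower.algebraMap_eq P A K]
    exact (IsFractionRing.injective A K).comp hg
  let _ : Algebra K₀ K := (IsFractionRing.lift hPK).toAlgebra
  have : IsScalarTower P K₀ K := .of_algebraMap_eq fun x ↦
    (IsFractionRing.lift_algebraMap hPK x).symm
  let _ : Algebra K₀ L := ((algebraMap K L).comp (algebraMap K₀ K)).toAlgebra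
  have : IsScalarTower K₀ K L := .of_algebraMap_eq fun _ ↦ rfl
  have : IsScalarTower P K₀ L := .of_algebraMap_eq fun x ↦ by
    show _ = algebraMap K L (algebraMap K₀ K (algebraMap P K₀ x))
    rw [← IsScalarTower.algebraMap_apply P K₀ K, ← IsScalarTower.algebraMap_apply P K L]
  -- the fraction field is finite over that of the polynomial ring
  have hfinK : FiniteDimensional K₀ K := by
    obtain ⟨t, ht⟩ := Module.Finite.fg_top (R := P) (M := A)
    let E : IntermediateField K₀ K := adjoin K₀ (algebraMap A K '' (t : Set A))
    have : Finite (algebraMap A K '' (t : Set A)) := (t.finite_toSet.image _).to_subtype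
    have : FiniteDimensional K₀ E := finiteDimensional_adjoin (by
      rintro _ ⟨a, -, rfl⟩
      exact ((Algebra.IsIntegral.isIntegral (R := P) a).map
        (IsScalarTower.toAlgHom P A K)).tower_top)
    have hA : ∀ a : A, algebraMap A K a ∈ E := by
      intro a
      have : a ∈ Submodule.span P (t : Set A) := ht ▸ trivial
      induction this using Submodule.span_induction with
      | mem x hx => exact subset_adjoin _ _ ⟨x, hx, rfl⟩
      | zero => simp
      | add x y _ _ hx hy => rw [map_add]; exact add_mem hx hy
      | smul r x _ hx =>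
        rw [Algebra.smul_def, map_mul, ← IsScalarTower.algebraMap_apply,
          IsScalarTower.algebraMap_apply P K₀ K]
        exact mul_mem (E.algebraMap_mem _) hx
    have : E = ⊤ := by
      refine eq_top_iff.mpr fun x _ ↦ ?_
      obtain ⟨a, b, -, rfl⟩ := IsFractionRing.div_surjective A x
      exact div_mem (hA a) (hA b)
    exact Module.Finite.of_surjective E.val.toLinearMap fun x ↦ ⟨⟨x, this ▸ trivial⟩, rfl⟩
  have : FiniteDimensional K₀ L := Module.Finite.trans K L
  have := finite_integralClosure_mvPolynomial (σ := Fin s) (k := k) L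
  -- integral closures over the two rings agree
  let f : integralClosure A L →ₗ[P] integralClosure P L :=
    { toFun := fun x ↦ ⟨x, isIntegral_trans (R := P) (A := A) _ x.2⟩
      map_add' := fun _ _ ↦ rfl
      map_smul' := fun _ _ ↦ rfl }
  have : IsNoetherian P (integralClosure P L) := isNoetherian_of_isNoetherianRing_of_finite _ _
  have : Module.Finite P (integralClosure A L) :=
    Module.Finite.of_injective f fun x y e ↦ by
      apply Subtype.ext
      exact congrArg (fun z : integralClosure P L ↦ (z : L)) e
  exact Module.Finite.of_restrictScalars_finite P A _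

end NormFinLib
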