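import Groth.Agent.NormFin.CurveNormalization

/-!
# Normal models of function fields of one variable inside a given scheme
-/

set_option autoImplicit false

universe u

open CategoryTheory Limits AlgebraicGeometry

namespace NormFinLib

/-- Maximal ideals of a domain of finite type of transcendence degree one over a field have height
one. -/
theorem ringKrullDim_localization_of_trdeg_one (k D K : Type u) [Field k] [CommRing D] [IsDomain D]
    [Algebra k D] [Algebra.FiniteType k D] [Field K] [Algebra D K] [IsFractionRing D K]
    [Algebra k K] [IsScalarTower k D K] (htr : Algebra.trdeg k K = 1) (P : Ideal D) [P.IsMaximal] :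
    ringKrullDim (Localization.AtPrime P) = 1 := by
  obtain ⟨s, g, hg, hfin⟩ := exists_finite_inj_algHom_of_fg k D
  let P₀ := MvPolynomial (Fin s) k
  let _ : Algebra P₀ D := g.toRingHom.toAlgebra
  have : Module.Finite P₀ D := hfin
  have : IsScalarTower k P₀ D := .of_algebraMap_eq fun c ↦ (g.commutes c).symm
  let _ : Algebra P₀ K := ((algebraMap D K).comp (algebraMap P₀ D)).toAlgebra
  have : IsScalarTower P₀ D K := .of_algebraMap_eq fun _ ↦ rfl
  have : IsScalarTower k P₀ K := .to₁₂₄ k P₀ D K
  have hinjK : Function.Injective (algebraMap P₀ K) := (IsFractionRing.injective D K).comp hg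
  have : FaithfulSMul P₀ K := (faithfulSMul_iff_algebraMap_injective _ _).mpr hinjK
  have : FaithfulSMul P₀ D := (faithfulSMul_iff_algebraMap_injective _ _).mpr hg
  have : Algebra.IsAlgebraic D K := (IsFractionRing.comap_isAlgebraic_iff (A := D) (K := K)).mpr
    inferInstance
  have : Algebra.IsAlgebraic P₀ K := Algebra.IsAlgebraic.trans P₀ D K
  have hbasis := (IsTranscendenceBasis.mvPolynomial (Fin s) k).algebraMap_comp (A := K)
  have hs : s = 1 := by
    have h1 := hbasis.lift_cardinalMk_eq_trdeg
    rw [htr] at h1
    simpa using h1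
  subst hs
  let g' : Polynomial k →ₐ[k] D :=
    g.comp (MvPolynomial.uniqueAlgEquiv k (Fin 1)).symm.toAlgHom
  have hg' : Function.Injective g' := hg.comp (AlgEquiv.injective _)
  let _ : Algebra (Polynomial k) D := g'.toRingHom.toAlgebra
  have hint : Algebra.IsIntegral (Polynomial k) D := by
    constructor
    intro x
    show g'.toRingHom.IsIntegralElem x
    exact RingHom.IsIntegral.trans (MvPolynomial.uniqueAlgEquiv k (Fin 1)).symm.toAlgHom.toRingHom
      g.toRingHom (RingHom.isIntegral_of_surjective _ (AlgEquiv.surjective _))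
      (RingHom.IsIntegral.of_finite hfin) x
  let m := P.comap (algebraMap (Polynomial k) D)
  have hm : m.IsMaximal := Ideal.isMaximal_comap_of_isIntegral_of_isMaximal P
  have hm0 : m ≠ ⊥ := fun h ↦
    Polynomial.not_isField k ((Ring.isField_iff_isSimpleOrder_ideal).mpr
      (isSimpleOrder_iff_isCoatom_bot.mpr (Ideal.isMaximal_def.mp (h ▸ hm))))
  have : IsDiscreteValuationRing (Localization.AtPrime m) :=
    IsLocalization.AtPrime.isDiscreteValuationRing_of_dedekind_domain (Polynomial k) hm0 _
  exact ringKrullDim_localization_of_isIntegral (A := Polynomial k) hg' P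
    (IsDiscreteValuationRing.ringKrullDim_eq_one _)

/-- Properties of the integral closure of a finite type algebra in a field of transcendence degree
one which is finite over the field generated by the image. -/
theorem integralClosure_field_facts {k A M K κ : Type u} [Field k] [CommRing A] [Algebra k A]
    [Algebra.FiniteType k A] [CommRing M] [Algebra A M] [Field K] [Algebra k K]
    (htr : Algebra.trdeg k K = 1) (e : M ≃+* K)
    (hk : ∀ c, e (algebraMap A M (algebraMap k A c)) = algebraMap k K c)
    [Field κ] (ι : κ →+* K) (hι : ι.Finite) (ψ : A →+* κ)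
    (hψ : ∀ a, e (algebraMap A M a) = ι (ψ a)) (hdiv : ∀ ξ : κ, ∃ a b, ξ = ψ a / ψ b) :
    (algebraMap A (integralClosure A M)).FiniteType ∧ IsDomain (integralClosure A M) ∧
      IsIntegrallyClosed (integralClosure A M) ∧
      (∀ x : K, ∃ d₁ d₂ : integralClosure A M, x = e d₁.1 / e d₂.1) ∧
      ∀ (P : Ideal (integralClosure A M)) [P.IsMaximal],
        ringKrullDim (Localization.AtPrime P) = 1 := by
  let _ : Algebra A K := (e.toRingHom.comp (algebraMap A M)).toAlgebra
  let q := RingHom.ker (algebraMap A K)
  have : q.IsPrime := RingHom.ker_isPrime _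
  let B := A ⧸ q
  let _ : Algebra B K := (Ideal.Quotient.lift q (algebraMap A K) fun _ h ↦ h).toAlgebra
  have : IsScalarTower A B K := .of_algebraMap_eq fun _ ↦ rfl
  have hBK : Function.Injective (algebraMap B K) :=
    RingHom.lift_injective_of_ker_le_ideal q (fun _ h ↦ h) le_rfl
  have : IsScalarTower k B K := .of_algebraMap_eq fun c ↦ (hk c).symm
  have : Algebra.FiniteType k B :=
    .of_surjective (Ideal.Quotient.mkₐ k q) Ideal.Quotient.mk_surjective
  let K₀ := FractionRing B
  let _ : Algebra K₀ K := (IsFractionRing.lift hBK).toAlgebra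
  have : IsScalarTower B K₀ K := .of_algebraMap_eq fun x ↦
    (IsFractionRing.lift_algebraMap hBK x).symm
  have : FiniteDimensional K₀ K := by
    let _ : Algebra κ K := ι.toAlgebra
    have : Module.Finite κ K := hι
    obtain ⟨t, ht⟩ := Module.Finite.fg_top (R := κ) (M := K)
    refine ⟨⟨t, eq_top_iff.mpr fun x hxtop ↦ ?_⟩⟩
    clear hxtop
    have hx : x ∈ Submodule.span κ (t : Set K) := ht ▸ trivial
    induction hx using Submodule.span_induction with
    | mem x hx => exact Submodule.subset_span hx
    | zero => exact zero_mem _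
    | add x y _ _ hx hy => exact add_mem hx hy
    | smul ξ x _ hx =>
      obtain ⟨a, b, rfl⟩ := hdiv ξ
      have h1 : ∀ c : A, ι (ψ c) =
          algebraMap K₀ K (algebraMap B K₀ (Ideal.Quotient.mk q c)) := fun c ↦ by
        rw [← IsScalarTower.algebraMap_apply, ← hψ]
        rfl
      have h2 : (ψ a / ψ b) • x = (algebraMap B K₀ (Ideal.Quotient.mk q a) /
          algebraMap B K₀ (Ideal.Quotient.mk q b)) • x := by
        rw [Algebra.smul_def, Algebra.smul_def, map_div₀ (algebraMap K₀ K), ← h1, ← h1]
        show ι _ * x = _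
        rw [map_div₀]
      rw [h2]
      exact Submodule.smul_mem _ _ hx
  let D' := integralClosure B K
  have : Module.Finite B D' := finite_integralClosure_of_finiteType_field k B K₀ K
  have : IsIntegrallyClosed D' := integralClosure.isIntegrallyClosedOfFiniteExtension K₀
  have : IsFractionRing D' K :=
    IsIntegralClosure.isFractionRing_of_finite_extension B K₀ K D'
  -- the two integral closures
  let ea : M ≃ₐ[A] K := AlgEquiv.ofRingEquiv (f := e) fun _ ↦ rfl
  have hiff : ∀ x : M, IsIntegral A x ↔ IsIntegral B (e x) := by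
    intro x
    rw [← isIntegral_algHom_iff ea.toAlgHom ea.injective]
    show IsIntegral A (e x) ↔ _
    have : Algebra.IsIntegral A B :=
      ⟨fun b ↦ by
        obtain ⟨a, rfl⟩ := Ideal.Quotient.mk_surjective b
        exact isIntegral_algebraMap⟩
    exact ⟨fun h ↦ h.tower_top, fun h ↦ isIntegral_trans _ h⟩
  let ed : integralClosure A M ≃+* D' :=
    { toFun := fun x ↦ ⟨e x.1, (hiff _).mp x.2⟩
      invFun := fun y ↦ ⟨e.symm y.1, (hiff _).mpr (by rw [e.apply_symm_apply]; exact y.2)⟩
      left_inv := fun x ↦ Subtype.ext (e.symm_apply_apply _)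
      right_inv := fun y ↦ Subtype.ext (e.apply_symm_apply _)
      map_mul' := fun x y ↦ Subtype.ext (map_mul e _ _)
      map_add' := fun x y ↦ Subtype.ext (map_add e _ _) }
  refine ⟨?_, ed.toMulEquiv.isDomain _, IsIntegrallyClosed.of_equiv ed.symm, fun x ↦ ?_,
    fun P _ ↦ ?_⟩
  · have h1 : (algebraMap A (integralClosure A M)) =
        (ed.symm.toRingHom.comp (algebraMap B D')).comp (Ideal.Quotient.mk q) := by
      ext a
      show algebraMap A M a = e.symm (algebraMap B K (Ideal.Quotient.mk q a))
      rw [← e.symm_apply_apply (algebraMap A M a)]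
      rfl
    rw [h1]
    refine RingHom.FiniteType.comp (RingHom.FiniteType.comp
      (RingHom.FiniteType.of_surjective _ ed.symm.surjective) ?_)
      (RingHom.FiniteType.of_surjective _ Ideal.Quotient.mk_surjective)
    exact RingHom.finiteType_algebraMap.mpr inferInstance
  · obtain ⟨y₁, y₂, -, rfl⟩ := IsFractionRing.div_surjective D' x
    refine ⟨ed.symm y₁, ed.symm y₂, ?_⟩
    show algebraMap D' K y₁ / algebraMap D' K y₂ = e (e.symm y₁.1) / e (e.symm y₂.1)
    rw [e.apply_symm_apply, e.apply_symm_apply]
    rfl
  · let P' := P.comap ed.symm.toRingHom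
    have : P'.IsMaximal := Ideal.comap_isMaximal_of_surjective _ ed.symm.surjective
    have : Algebra.FiniteType B D' := inferInstance
    have : Algebra.FiniteType k D' := Algebra.FiniteType.trans (S := B) inferInstance inferInstance
    have h := ringKrullDim_localization_of_trdeg_one k D' K htr P'
    rw [← h]
    refine (ringKrullDim_eq_of_ringEquiv (IsLocalization.ringEquivOfRingEquiv
      (M := P'.primeCompl) (T := P.primeCompl) (Localization.AtPrime P') (Localization.AtPrime P)
      ed.symm ?_)).symm
    ext x
    constructor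
    · rintro ⟨y, hy, rfl⟩
      exact hy
    · intro hx
      refine ⟨ed x, fun hy ↦ hx ?_, ed.symm_apply_apply x⟩
      simpa [P'] using hy

/-- The normalization of a proper scheme in a field of transcendence degree one mapping to it gives
a normal complete curve with that function field. -/
theorem exists_curve_model (k K : Type u) [Field k] [Field K] [Algebra k K]
    (htr : Algebra.trdeg k K = 1) {X : Scheme.{u}} (s : X ⟶ Spec (CommRingCat.of k)) [IsProper s]
    (g : Spec (CommRingCat.of K) ⟶ X)
    (hgs : g ≫ s = Spec.map (CommRingCat.ofHom (algebraMap k K))) [QuasiCompact g] [QuasiSeparated g]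
    (w : X) (ι : X.residueField w ⟶ CommRingCat.of K) (hι : ι.hom.Finite)
    (hg : g = Spec.map ι ≫ X.fromSpecResidueField w) :
    IsProper (g.fromNormalization ≫ s) ∧ IsIntegral g.normalization ∧
      (∀ x : g.normalization, IsDomain (g.normalization.presheaf.stalk x) ∧
        IsIntegrallyClosed (g.normalization.presheaf.stalk x)) ∧
      (∀ x : g.normalization, IsClosed ({x} : Set g.normalization) →
        ringKrullDim (g.normalization.presheaf.stalk x) = 1) ∧
      ∀ y : g.normalization, IsGenericPoint y ⊤ →
        ∃ e : g.normalization.presheaf.stalk y ≃+* K, ∀ c : k,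
          e ((g.normalization.presheaf.germ ⊤ y trivial).hom
            ((g.fromNormalization ≫ s).appTop.hom
              ((Scheme.ΓSpecIso (CommRingCat.of k)).inv.hom c))) = algebraMap k K c := by
  let pt : Spec (CommRingCat.of K) := IsLocalRing.closedPoint K
  have hgw : g pt = w := by
    rw [hg, Scheme.Hom.comp_apply, Scheme.fromSpecResidueField_apply]
  have hsub : ∀ x : Spec (CommRingCat.of K), x = pt := fun x ↦
    have : Subsingleton (Spec (CommRingCat.of K)) :=
      inferInstanceAs (Subsingleton (PrimeSpectrum K))
    Subsingleton.elim _ _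
  -- the rings of the charts
  have key : ∀ U : X.affineOpens,
      (g.normalizationDiagramMap.app (.op U.1)).hom.FiniteType ∧
      (Nonempty (PrimeSpectrum (g.normalizationDiagram.obj (.op U.1))) →
        w ∈ U.1 ∧ IsDomain (g.normalizationDiagram.obj (.op U.1)) ∧
          IsIntegrallyClosed (g.normalizationDiagram.obj (.op U.1)) ∧
          ∀ (P : Ideal (g.normalizationDiagram.obj (.op U.1))) [P.IsMaximal],
            ringKrullDim (Localization.AtPrime P) = 1) ∧
      ∀ (hw : g pt ∈ U.1), ∀ x : K, ∃ d₁ d₂ : g.normalizationDiagram.obj (.op U.1),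
        x = ((Spec (CommRingCat.of K)).presheaf.mapIso
            (eqToIso (Scheme.preimage_eq_top_of_closedPoint_mem g hw).symm).op ≪≫
              Scheme.ΓSpecIso (CommRingCat.of K)).hom.hom d₁.1 /
          ((Spec (CommRingCat.of K)).presheaf.mapIso
            (eqToIso (Scheme.preimage_eq_top_of_closedPoint_mem g hw).symm).op ≪≫
              Scheme.ΓSpecIso (CommRingCat.of K)).hom.hom d₂.1 := by
    intro U
    let M := Γ(Spec (CommRingCat.of K), g ⁻¹ᵁ U.1)
    let _ : Algebra Γ(X, U.1) M := (g.app U.1).hom.toAlgebra
    show (algebraMap Γ(X, U.1) (integralClosure Γ(X, U.1) M)).FiniteType ∧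
      (Nonempty (PrimeSpectrum (integralClosure Γ(X, U.1) M)) →
        w ∈ U.1 ∧ IsDomain (integralClosure Γ(X, U.1) M) ∧
          IsIntegrallyClosed (integralClosure Γ(X, U.1) M) ∧
          ∀ (P : Ideal (integralClosure Γ(X, U.1) M)) [P.IsMaximal],
            ringKrullDim (Localization.AtPrime P) = 1) ∧
      ∀ (hw : g pt ∈ U.1), ∀ x : K, ∃ d₁ d₂ : integralClosure Γ(X, U.1) M, _
    by_cases hw : g pt ∈ U.1
    · let j := (Spec (CommRingCat.of K)).presheaf.mapIso
        (eqToIso (Scheme.preimage_eq_top_of_closedPoint_mem g hw).symm).op ≪≫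
          Scheme.ΓSpecIso (CommRingCat.of K)
      have hwU : w ∈ U.1 := hgw ▸ hw
      let ψ := DvrDomLib.resEval (𝟙 X) w U.1 hwU
      let γ : Γ(X, U.1) ⟶ CommRingCat.of K :=
        X.presheaf.germ U.1 _ hw ≫ Scheme.stalkClosedPointTo g
      have hγj : γ = g.app U.1 ≫ j.hom := Scheme.germ_stalkClosedPointTo g U.1 hw
      have hγ : Spec.map γ ≫ U.2.fromSpec = g := by
        rw [Spec.map_comp, Category.assoc]
        conv_rhs => rw [← Scheme.Spec_stalkClosedPointTo_fromSpecStalk g]
        congr 1
        exact U.2.fromSpecStalk_eq_fromSpecStalk hw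
      have hγψ : γ = ψ ≫ ι := by
        apply Spec.map_injective
        rw [← cancel_mono U.2.fromSpec, hγ, Spec.map_comp, Category.assoc,
          DvrDomLib.specMap_resEval, Category.comp_id, ← hg]
      let σ : (CommRingCat.of k : CommRingCat.{u}) ⟶ Γ(X, U.1) :=
        (Scheme.ΓSpecIso (CommRingCat.of k)).inv ≫ s.appLE ⊤ U.1 (by simp)
      let _ : Algebra k Γ(X, U.1) := σ.hom.toAlgebra
      have : Algebra.FiniteType k Γ(X, U.1) := by
        show σ.hom.FiniteType
        simp only [σ, CommRingCat.hom_comp]
        exact (LocallyOfFiniteType.finiteType_appLE s (isAffineOpen_top _) U.2 (by simp)).comp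
          (RingHom.FiniteType.of_surjective _
            (Scheme.ΓSpecIso (CommRingCat.of k)).symm.commRingCatIsoToRingEquiv.surjective)
      have hσγ : σ ≫ γ = CommRingCat.ofHom (algebraMap k K) := by
        apply Spec.map_injective
        rw [← hgs]
        conv_rhs => rw [← hγ]
        simp only [σ, Category.assoc]
        rw [← IsAffineOpen.SpecMap_appLE_fromSpec s (isAffineOpen_top _) U.2
          (show U.1 ≤ s ⁻¹ᵁ ⊤ from fun _ _ ↦ trivial), IsAffineOpen.fromSpec_top, Scheme.isoSpec_Spec_inv, ← Spec.map_comp,
          ← Spec.map_comp]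
        simp only [Category.assoc]
      obtain ⟨h1, h2, h3, h4, h5⟩ := integralClosure_field_facts (A := Γ(X, U.1)) (M := M) htr
        j.commRingCatIsoToRingEquiv
        (fun c ↦ by
          have := DFunLike.congr_fun (congrArg CommRingCat.Hom.hom hσγ) c
          rw [hγj] at this
          exact this)
        ι.hom hι ψ.hom
        (fun a ↦ DFunLike.congr_fun (congrArg CommRingCat.Hom.hom (hγj.symm.trans hγψ)) a)
        (fun ξ ↦ by
          obtain ⟨a, b, -, h⟩ := exists_resEval_div U.2 w hwU ξ
          exact ⟨a, b, h⟩)
      exact ⟨h1, fun _ ↦ ⟨hwU, h2, h3, h5⟩, fun _ ↦ h4⟩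
    · have hbot : g ⁻¹ᵁ U.1 = ⊥ := eq_bot_iff.mpr fun x hx ↦ hw (hsub x ▸ hx)
      have : Subsingleton M := by
        show Subsingleton Γ(Spec (CommRingCat.of K), g ⁻¹ᵁ U.1)
        rw [hbot]
        infer_instance
      refine ⟨RingHom.FiniteType.of_surjective _ fun y ↦ ⟨0, Subsingleton.elim _ _⟩, ?_,
        fun h ↦ absurd h hw⟩
      rintro ⟨P⟩
      exact absurd ((Ideal.eq_top_iff_one _).mpr
        (Subsingleton.elim (0 : integralClosure Γ(X, U.1) M) 1 ▸ P.asIdeal.zero_mem)) P.2.ne_top
  have hfin : IsFinite g.fromNormalization := by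
    refine (IsFinite.iff_isIntegralHom_and_locallyOfFiniteType _).mpr ⟨inferInstance, ?_⟩
    refine IsZariskiLocalAtSource.of_openCover (P := @LocallyOfFiniteType)
      g.normalizationOpenCover fun U₀ ↦ ?_
    obtain ⟨U, rfl⟩ : ∃ V : X.affineOpens, V = U₀ := ⟨U₀, rfl⟩
    rw [g.ι_fromNormalization U]
    exact MorphismProperty.comp_mem _ _ _ (HasRingHomProperty.Spec_iff.mpr (key U).1)
      (inferInstanceAs (LocallyOfFiniteType U.2.fromSpec))
  have hnorm : ∀ x : g.normalization, IsDomain (g.normalization.presheaf.stalk x) ∧
      IsIntegrallyClosed (g.normalization.presheaf.stalk x) := by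
    intro x'
    obtain ⟨U₀, P, rfl⟩ := g.normalizationOpenCover.exists_eq x'
    obtain ⟨U, rfl⟩ : ∃ V : X.affineOpens, V = U₀ := ⟨U₀, rfl⟩
    obtain ⟨-, hd, hn, -⟩ := (key U).2.1 ⟨P⟩
    let D := g.normalizationDiagram.obj (.op U.1)
    let P' : PrimeSpectrum D := P
    let e := (asIso ((g.normalizationOpenCover.f U).stalkMap P)).commRingCatIsoToRingEquiv.trans
      (stalkEquivLocalization D P')
    have : IsDomain (Localization.AtPrime P'.asIdeal) :=
      IsLocalization.isDomain_of_le_nonZeroDivisors _ P'.asIdeal.primeCompl_le_nonZeroDivisors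
    have : IsIntegrallyClosed (Localization.AtPrime P'.asIdeal) :=
      isIntegrallyClosed_of_isLocalization _ P'.asIdeal.primeCompl
        P'.asIdeal.primeCompl_le_nonZeroDivisors
    exact ⟨e.toMulEquiv.isDomain _, IsIntegrallyClosed.of_equiv e.symm⟩
  let η := g.toNormalization pt
  have hη : IsGenericPoint η ⊤ := by
    rw [IsGenericPoint, Set.top_eq_univ, Set.eq_univ_iff_forall]
    intro x
    have h := g.toNormalization.denseRange x
    have hrange : Set.range g.toNormalization = {η} := Set.eq_singleton_iff_unique_mem.mpr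
      ⟨⟨pt, rfl⟩, by rintro _ ⟨a, rfl⟩; rw [hsub a]⟩
    rwa [hrange] at h
  refine ⟨inferInstance, ?_, hnorm, ?_, ?_⟩
  · have hred : AlgebraicGeometry.IsReduced g.normalization := by
      have : ∀ x : g.normalization, _root_.IsReduced (g.normalization.presheaf.stalk x) :=
        fun x ↦ have := (hnorm x).1; inferInstance
      exact isReduced_of_isReduced_stalk g.normalization
    have : Nonempty g.normalization := ⟨η⟩
    have : IrreducibleSpace g.normalization := by
      have h := isIrreducible_singleton (x := η) |>.closure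
      rw [hη] at h
      exact { isPreirreducible_univ := h.2, toNonempty := ⟨η⟩ }
    exact (isIntegral_iff_irreducibleSpace_and_isReduced _).mpr ⟨inferInstance, hred⟩
  · intro x' hx'
    obtain ⟨U₀, P, rfl⟩ := g.normalizationOpenCover.exists_eq x'
    obtain ⟨U, rfl⟩ : ∃ V : X.affineOpens, V = U₀ := ⟨U₀, rfl⟩
    obtain ⟨-, hd, -, hdim⟩ := (key U).2.1 ⟨P⟩
    let D := g.normalizationDiagram.obj (.op U.1)
    let P' : PrimeSpectrum D := P
    let e := (asIso ((g.normalizationOpenCover.f U).stalkMap P)).commRingCatIsoToRingEquiv.trans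
      (stalkEquivLocalization D P')
    rw [ringKrullDim_eq_of_ringEquiv e]
    have hP : IsClosed ({P} : Set (Spec D)) := by
      have h := hx'.preimage (g.normalizationOpenCover.f U).continuous
      rw [← Set.image_singleton,
        Set.preimage_image_eq _ (g.normalizationOpenCover.f U).isOpenEmbedding.injective] at h
      exact h
    have : P'.asIdeal.IsMaximal := (PrimeSpectrum.isClosed_singleton_iff_isMaximal P').mp hP
    exact hdim P'.asIdeal
  · intro y hy
    obtain rfl : y = η := hy.eq hη
    let t := Scheme.stalkClosedPointTo g.toNormalization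
    obtain ⟨_, ⟨U, hU, rfl⟩, hwU, -⟩ := X.isBasis_affineOpens.exists_subset_of_mem_open
      (Set.mem_univ (g pt)) isOpen_univ
    have hU : IsAffineOpen U := hU
    have := (hnorm η).1
    have hηU : g.toNormalization pt ∈ g.fromNormalization ⁻¹ᵁ U := by
      show g.fromNormalization (g.toNormalization pt) ∈ U
      rw [← Scheme.Hom.comp_apply, g.toNormalization_fromNormalization]
      exact hwU
    have hloc : IsField (g.normalization.presheaf.stalk η) := by
      have : IrreducibleSpace g.normalization := by
        have h := isIrreducible_singleton (x := η) |>.closure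
        rw [hη] at h
        exact { isPreirreducible_univ := h.2, toNonempty := ⟨η⟩ }
      have : AlgebraicGeometry.IsReduced g.normalization := by
        have : ∀ x : g.normalization, _root_.IsReduced (g.normalization.presheaf.stalk x) :=
          fun x ↦ have := (hnorm x).1; inferInstance
        exact isReduced_of_isReduced_stalk g.normalization
      have : IsIntegral g.normalization :=
        (isIntegral_iff_irreducibleSpace_and_isReduced _).mpr ⟨inferInstance, inferInstance⟩
      rw [show η = genericPoint g.normalization from hη.eq (genericPoint_spec g.normalization)]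
      exact Field.toIsField g.normalization.functionField
    have hinj : Function.Injective t.hom := by
      let _ := hloc.toField
      exact RingHom.injective t.hom
    let j := (Spec (CommRingCat.of K)).presheaf.mapIso
      (eqToIso (Scheme.preimage_eq_top_of_closedPoint_mem g hwU).symm).op ≪≫
        Scheme.ΓSpecIso (CommRingCat.of K)
    have hval : ∀ d : g.normalizationDiagram.obj (.op U), t.hom
        ((g.normalization.presheaf.germ _ η hηU).hom ((g.normalizationObjIso hU).inv.hom d)) =
          j.hom.hom d.1 := by
      intro d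
      let _ := (g.app U).hom.toAlgebra
      suffices (g.normalizationObjIso hU).inv ≫
          g.normalization.presheaf.germ _ η hηU ≫ t =
          CommRingCat.ofHom (integralClosure Γ(X, U) Γ(Spec (CommRingCat.of K), g ⁻¹ᵁ U)).val.toRingHom
            ≫ j.hom from
        DFunLike.congr_fun (congrArg CommRingCat.Hom.hom this) d
      rw [Scheme.germ_stalkClosedPointTo, g.toNormalization_app_preimage ⟨U, hU⟩]
      simp only [Category.assoc, Iso.inv_hom_id_assoc]
      congr 1
    have hsurj : Function.Surjective t.hom := by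
      intro x
      obtain ⟨d₁, d₂, hx⟩ := (key ⟨U, hU⟩).2.2 hwU x
      let _ := hloc.toField
      refine ⟨(g.normalization.presheaf.germ _ η hηU).hom ((g.normalizationObjIso hU).inv.hom d₁) /
        (g.normalization.presheaf.germ _ η hηU).hom ((g.normalizationObjIso hU).inv.hom d₂), ?_⟩
      rw [map_div₀, hval, hval, hx]
    refine ⟨RingEquiv.ofBijective t.hom ⟨hinj, hsurj⟩, fun c ↦ ?_⟩
    suffices (Scheme.ΓSpecIso (CommRingCat.of k)).inv ≫ (g.fromNormalization ≫ s).appTop ≫
        g.normalization.presheaf.germ ⊤ η trivial ≫ t = CommRingCat.ofHom (algebraMap k K) from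
      DFunLike.congr_fun (congrArg CommRingCat.Hom.hom this) c
    apply Spec.map_injective
    rw [← hgs]
    conv_rhs => rw [← g.toNormalization_fromNormalization,
      ← Scheme.Spec_stalkClosedPointTo_fromSpecStalk g.toNormalization, Category.assoc,
      Category.assoc]
    simp only [Spec.map_comp, Category.assoc]
    congr 1
    rw [← Scheme.fromSpecStalk_toSpecΓ, Category.assoc, ← Scheme.toSpecΓ_naturality_assoc]
    simp
    rfl

end NormFinLib
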