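import Groth.Agent.NormFin.Field
import Groth.Prelude.Def_Found

/-!
# Normal one-dimensional models over Nagata rings
-/

set_option autoImplicit false

universe u

open Polynomial

namespace NormFinLib

/-- In a Noetherian domain an element of a prime `z` that is avoided by some smaller prime is avoided
by a prime immediately below `z`. -/
theorem exists_prime_immediate_notMem {A : Type u} [CommRing A] [IsNoetherianRing A] (z : Ideal A)
    [z.IsPrime] (h : A) (hz : h ∈ z) (q₀ : Ideal A) [q₀.IsPrime] (hq₀ : q₀ ≤ z) (hh : h ∉ q₀) :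
    ∃ q : Ideal A, q.IsPrime ∧ q₀ ≤ q ∧ q < z ∧ h ∉ q ∧
      ∀ P : Ideal A, P.IsPrime → q ≤ P → P ≤ z → P = q ∨ P = z := by
  classical
  let T : Set (Ideal A) := {q : Ideal A | q.IsPrime ∧ q₀ ≤ q ∧ q ≤ z ∧ h ∉ q}
  have hex : ∃ q : Ideal A, q ∈ T ∧ ∀ I ∈ T, ¬ q < I := set_has_maximal_iff_noetherian.mpr
    (inferInstanceAs (IsNoetherian A A)) T ⟨q₀, ‹_›, le_rfl, hq₀, hh⟩
  obtain ⟨q, ⟨hq, hq₀q, hqz, hhq⟩, hmax⟩ := hex
  have hqz' : q < z := lt_of_le_of_ne hqz fun e ↦ hhq (e ▸ hz)
  refine ⟨q, hq, hq₀q, hqz', hhq, fun P hP hqP hPz ↦ ?_⟩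
  by_contra hne
  push Not at hne
  -- every prime strictly above `q` and below `z` contains `h`
  have habove : ∀ Q : Ideal A, Q.IsPrime → q < Q → Q ≤ z → h ∈ Q := fun Q hQ hqQ hQz ↦ by
    by_contra hhQ
    exact hmax Q ⟨hQ, hq₀q.trans hqQ.le, hQz, hhQ⟩ hqQ
  let S := (q ⊔ Ideal.span {h}).minimalPrimes
  have hS : S.Finite := Ideal.finite_minimalPrimes_of_isNoetherianRing _ _
  have hcov : (z : Set A) ⊆ ⋃ Q ∈ (hS.toFinset : Set (Ideal A)), (Q : Set A) := by
    intro a ha
    by_cases haq : a ∈ q
    · obtain ⟨Q, hQ, -⟩ := Ideal.exists_minimalPrimes_le (I := q ⊔ Ideal.span {h}) (J := z)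
        (sup_le hqz (by simpa using hz))
      exact Set.mem_biUnion (hS.mem_toFinset.mpr hQ) (hQ.1.2 (Ideal.mem_sup_left haq))
    obtain ⟨Q, hQ, hQz⟩ := Ideal.exists_minimalPrimes_le (I := q ⊔ Ideal.span {a}) (J := z)
      (sup_le hqz (by simpa using ha))
    have haQ : a ∈ Q := hQ.1.2 (Ideal.mem_sup_right (Ideal.mem_span_singleton_self a))
    have hqQ : q < Q := lt_of_le_of_ne (le_sup_left.trans hQ.1.2) fun e ↦ haq (e ▸ haQ)
    refine Set.mem_biUnion (x := Q) (hS.mem_toFinset.mpr ⟨⟨hQ.1.1, sup_le hqQ.le ?_⟩,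
      fun Q' hQ' hQ'Q ↦ ?_⟩) haQ
    · simpa using habove Q hQ.1.1 hqQ hQz
    -- by Krull, `Q` has height one modulo `q`
    have hhQ' : h ∈ Q' := hQ'.2 (Ideal.mem_sup_right (Ideal.mem_span_singleton_self h))
    have hqQ' : q < Q' :=
      lt_of_le_of_ne (le_sup_left.trans hQ'.2) fun e ↦ hhq (e ▸ hhQ')
    by_contra hle
    have h1 := Ideal.map_height_le_one_of_mem_minimalPrimes hQ
    have hker : ∀ R : Ideal A, q ≤ R → RingHom.ker (Ideal.Quotient.mk q) ≤ R := fun R hR ↦ by
      rwa [Ideal.mk_ker]
    have p0 : (q.map (Ideal.Quotient.mk q)).IsPrime :=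
      Ideal.map_isPrime_of_surjective Ideal.Quotient.mk_surjective (hker _ le_rfl)
    have : Q'.IsPrime := hQ'.1
    have : Q.IsPrime := hQ.1.1
    have p1 : (Q'.map (Ideal.Quotient.mk q)).IsPrime :=
      Ideal.map_isPrime_of_surjective Ideal.Quotient.mk_surjective (hker _ hqQ'.le)
    have p2 : (Q.map (Ideal.Quotient.mk q)).IsPrime :=
      Ideal.map_isPrime_of_surjective Ideal.Quotient.mk_surjective (hker _ hqQ.le)
    have mono : ∀ R R' : Ideal A, q ≤ R → q ≤ R' → R < R' →
        R.map (Ideal.Quotient.mk q) < R'.map (Ideal.Quotient.mk q) := by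
      intro R R' hR hR' hlt
      refine lt_of_le_of_ne (Ideal.map_mono hlt.le) fun e ↦ hlt.ne ?_
      have := congrArg (Ideal.comap (Ideal.Quotient.mk q)) e
      rwa [Ideal.comap_map_mk hR, Ideal.comap_map_mk hR'] at this
    have l1 := mono q Q' le_rfl hqQ'.le hqQ'
    have l2 := mono Q' Q hqQ'.le hqQ.le (lt_of_le_not_ge hQ'Q hle)
    have : q.map (Ideal.Quotient.mk q) = ⊥ := Ideal.map_quotient_self q
    rw [this] at l1
    have h2 := Ideal.height_le_iff.mp h1 _ p1 l2
    have h3 : Ideal.height (Q'.map (Ideal.Quotient.mk q)) = 0 := by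
      simpa [Order.lt_one_iff] using h2
    have h4 := Ideal.mem_minimalPrimes_of_height_le (I := (⊥ : Ideal (A ⧸ q))) bot_le (by
      rw [h3]; exact bot_le)
    exact l1.not_ge (h4.2 ⟨Ideal.isPrime_bot, bot_le⟩ bot_le)
  obtain ⟨Q, hQS, hzQ⟩ := (Ideal.subset_union_prime q q fun Q hQ _ _ ↦
    (hS.mem_toFinset.mp hQ).1.1).mp hcov
  have hQ := hS.mem_toFinset.mp hQS
  have hqP : q < P := lt_of_le_of_ne hqP (Ne.symm hne.1)
  have hle : q ⊔ Ideal.span {h} ≤ P := sup_le hqP.le (by simpa using habove P hP hqP hPz)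
  exact hne.2 (le_antisymm hPz (hzQ.trans (hQ.2 ⟨hP, hle⟩ (hPz.trans hzQ))))

/-- If a finite type algebra over a domain is a field, the domain becomes a field after inverting
one element. -/
theorem exists_forall_dvd_pow {R₀ F : Type u} [CommRing R₀] [IsDomain R₀] [Field F] [Algebra R₀ F]
    [Algebra.FiniteType R₀ F] (hinj : Function.Injective (algebraMap R₀ F)) :
    ∃ r : R₀, r ≠ 0 ∧ ∀ a : R₀, a ≠ 0 → ∃ n : ℕ, a ∣ r ^ n := by
  classical
  let K₀ := FractionRing R₀
  let _ : Algebra K₀ F := (IsFractionRing.lift hinj).toAlgebra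
  have : IsScalarTower R₀ K₀ F := .of_algebraMap_eq fun x ↦
    (IsFractionRing.lift_algebraMap hinj x).symm
  have : Algebra.FiniteType K₀ F := Algebra.FiniteType.of_restrictScalars_finiteType R₀ K₀ F
  have : Module.Finite K₀ F := finite_of_finite_type_of_isJacobsonRing K₀ F
  obtain ⟨t, ht⟩ := (inferInstance : Algebra.FiniteType R₀ F).out
  have halg : ∀ x : F, IsAlgebraic R₀ x := fun x ↦
    (IsFractionRing.isAlgebraic_iff R₀ K₀ F).mpr (Algebra.IsAlgebraic.isAlgebraic x)
  choose y hy hyint using fun x ↦ (halg x).exists_integral_multiple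
  let r := ∏ x ∈ t, y x
  have hr : r ≠ 0 := Finset.prod_ne_zero_iff.mpr fun x _ ↦ hy x
  refine ⟨r, hr, ?_⟩
  let u : F := (algebraMap R₀ F r)⁻¹
  let A' : Subalgebra R₀ F := Algebra.adjoin R₀ {u}
  have hru : algebraMap R₀ F r * u = 1 :=
    mul_inv_cancel₀ fun h ↦ hr (hinj (by rw [h, map_zero]))
  have hA' : Algebra.IsIntegral A' F := by
    refine ⟨fun x ↦ ?_⟩
    have hx : x ∈ Algebra.adjoin R₀ (t : Set F) := ht ▸ trivial
    induction hx using Algebra.adjoin_induction with
    | mem x hx =>
      have h1 : IsIntegral A' (y x • x) := (hyint x).tower_top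
      obtain ⟨c, hc⟩ := Finset.dvd_prod_of_mem y hx
      have h2 : x = algebraMap A' F ⟨algebraMap R₀ F c * u,
          mul_mem (A'.algebraMap_mem c) (Algebra.self_mem_adjoin_singleton _ _)⟩ * (y x • x) := by
        show x = algebraMap R₀ F c * u * (y x • x)
        rw [Algebra.smul_def]
        have h3 : algebraMap R₀ F r = algebraMap R₀ F (y x) * algebraMap R₀ F c := by
          rw [← map_mul, ← hc]
        linear_combination (-x * hru) + u * x * h3
      rw [h2]
      exact isIntegral_algebraMap.mul h1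
    | algebraMap a =>
      rw [IsScalarTower.algebraMap_apply R₀ A' F]
      exact isIntegral_algebraMap
    | add a b _ _ ha hb => exact ha.add hb
    | mul a b _ _ ha hb => exact ha.mul hb
  have hfield : IsField A' :=
    isField_of_isIntegral_of_isField Subtype.val_injective (Field.toIsField F)
  intro a ha
  obtain ⟨b, hb⟩ := hfield.mul_inv_cancel (a := algebraMap R₀ A' a) fun h ↦ ha (hinj (by
    rw [map_zero]; exact congrArg Subtype.val h))
  have hb' : algebraMap R₀ F a * (b : F) = 1 := congrArg Subtype.val hb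
  have hclear : ∀ z ∈ A', ∃ (n : ℕ) (c : R₀), z * algebraMap R₀ F r ^ n = algebraMap R₀ F c := by
    intro z hz
    induction hz using Algebra.adjoin_induction with
    | mem z hz => obtain rfl : z = u := hz; exact ⟨1, 1, by rw [pow_one, mul_comm, hru, map_one]⟩
    | algebraMap c => exact ⟨0, c, by simp⟩
    | add z w _ _ hz hw =>
      obtain ⟨n, c, hc⟩ := hz; obtain ⟨m, d, hd⟩ := hw
      refine ⟨n + m, c * r ^ m + d * r ^ n, ?_⟩
      simp only [map_add, map_mul, map_pow, pow_add]
      linear_combination algebraMap R₀ F r ^ m * hc + algebraMap R₀ F r ^ n * hd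
    | mul z w _ _ hz hw =>
      obtain ⟨n, c, hc⟩ := hz; obtain ⟨m, d, hd⟩ := hw
      refine ⟨n + m, c * d, ?_⟩
      simp only [map_mul, pow_add]
      linear_combination (w * algebraMap R₀ F r ^ m) * hc + algebraMap R₀ F c * hd
  obtain ⟨n, c, hc⟩ := hclear _ b.2
  exact ⟨n, c, hinj (by
    rw [map_pow, map_mul, ← hc, ← mul_assoc, hb', one_mul])⟩

/-- Integral closures of localizations at an element with bounded denominators. -/
theorem finite_integralClosure_away {R₀ B Bs L : Type u} [CommRing R₀] [CommRing B] [CommRing Bs]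
    [Field L] [Algebra R₀ B] [Algebra B Bs] [Algebra R₀ Bs] [IsScalarTower R₀ B Bs] [Algebra R₀ L]
    [Algebra B L] [Algebra Bs L] [IsScalarTower R₀ B L] [IsScalarTower B Bs L]
    (s : B) [IsLocalization.Away s Bs]
    (hzmt : ∀ x : B, ∃ m : ℕ, IsIntegral R₀ (s ^ m * x)) (hsint : IsIntegral R₀ s)
    [Module.Finite R₀ (integralClosure R₀ L)] : Module.Finite Bs (integralClosure Bs L) := by
  have : IsScalarTower R₀ Bs L := .of_algebraMap_eq fun x ↦ by
    rw [IsScalarTower.algebraMap_apply R₀ B Bs, ← IsScalarTower.algebraMap_apply B Bs L,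
      ← IsScalarTower.algebraMap_apply R₀ B L]
  let sL : L := algebraMap B L s
  have hsL : IsIntegral R₀ sL := hsint.map (IsScalarTower.toAlgHom R₀ B L)
  -- enough powers of `s` make any element integral over the base
  have hbs : ∀ c : Bs, ∃ M : ℕ, ∀ m ≥ M, IsIntegral R₀ (sL ^ m * algebraMap Bs L c) := by
    intro c
    obtain ⟨x, n, hn⟩ := IsLocalization.Away.surj s c
    obtain ⟨m₀, hm₀⟩ := hzmt n
    refine ⟨x + m₀, fun m hm ↦ ?_⟩
    obtain ⟨j, rfl⟩ := Nat.exists_eq_add_of_le hm
    have : sL ^ (x + m₀ + j) * algebraMap Bs L c = sL ^ j * algebraMap B L (s ^ m₀ * n) := by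
      have h1 := congrArg (algebraMap Bs L) hn
      rw [map_mul, map_pow, ← IsScalarTower.algebraMap_apply, ← IsScalarTower.algebraMap_apply]
        at h1
      rw [map_mul, map_pow, ← h1]
      ring
    rw [this]
    exact (hsL.pow j).mul (hm₀.map (IsScalarTower.toAlgHom R₀ B L))
  have key : ∀ x : L, IsIntegral Bs x → ∃ M : ℕ, IsIntegral R₀ (sL ^ M * x) := by
    intro x hx
    obtain ⟨P, hP, hPx⟩ := hx
    choose M hM using hbs
    let N := (Finset.range (P.natDegree + 1)).sup fun i ↦ M (P.coeff i)
    refine ⟨N, ?_⟩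
    let Q := (P.map (algebraMap Bs L)).scaleRoots (sL ^ N)
    have hQmonic : Q.Monic := (Polynomial.monic_scaleRoots_iff _).mpr (hP.map _)
    have hcoeff : ∀ i, Q.coeff i ∈ integralClosure R₀ L := by
      intro i
      rw [Polynomial.coeff_scaleRoots, Polynomial.coeff_map, hP.natDegree_map]
      rcases lt_trichotomy i P.natDegree with hi | rfl | hi
      · rw [← pow_mul, mul_comm]
        refine hM _ _ ((Finset.le_sup (s := Finset.range (P.natDegree + 1)) (f := fun i ↦ M (P.coeff i))
          (Finset.mem_range.mpr (by omega))).trans ?_)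
        exact Nat.le_mul_of_pos_right _ (Nat.sub_pos_of_lt hi)
      · simp [hP.coeff_natDegree]
      · simp [P.coeff_eq_zero_of_natDegree_lt hi]
    have hx' : Q.eval (sL ^ N * x) = 0 := by
      have : (P.map (algebraMap Bs L)).eval x = 0 := by rwa [Polynomial.eval_map]
      exact Polynomial.scaleRoots_eval_mul _ x _ ▸ by rw [this, mul_zero]
    have : IsIntegral (integralClosure R₀ L) (sL ^ N * x) := by
      obtain ⟨Q', hQ', hQdeg, hQ'm⟩ := Polynomial.lifts_and_degree_eq_and_monic
        ((Polynomial.lifts_iff_coeff_lifts (f := algebraMap (integralClosure R₀ L) L) Q).mpr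
          fun i ↦ ⟨⟨_, hcoeff i⟩, rfl⟩) hQmonic
      refine ⟨Q', hQ'm, ?_⟩
      rw [← Polynomial.eval_map, hQ', hx']
    exact isIntegral_trans _ this
  obtain ⟨t, ht⟩ := Module.Finite.fg_top (R := R₀) (M := integralClosure R₀ L)
  classical
  let ι : integralClosure R₀ L → integralClosure Bs L := fun e ↦ ⟨e.1, e.2.tower_top⟩
  refine ⟨⟨t.image ι, eq_top_iff.mpr fun x _ ↦ ?_⟩⟩
  obtain ⟨M, hM⟩ := key x.1 x.2
  have hspan : ∀ e : integralClosure R₀ L,
      ι e ∈ Submodule.span Bs ((t.image ι : Finset _) : Set (integralClosure Bs L)) := by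
    intro e
    have he : e ∈ Submodule.span R₀ (t : Set (integralClosure R₀ L)) := ht ▸ trivial
    induction he using Submodule.span_induction with
    | mem e he => exact Submodule.subset_span (Finset.mem_image_of_mem ι he)
    | zero => exact zero_mem _
    | add e e' _ _ h h' => exact add_mem h h'
    | smul a e _ h =>
      have : ι (a • e) = algebraMap R₀ Bs a • ι e := Subtype.ext (by
        show a • (e : L) = algebraMap R₀ Bs a • (e : L)
        rw [Algebra.smul_def, Algebra.smul_def, ← IsScalarTower.algebraMap_apply])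
      rw [this]
      exact Submodule.smul_mem _ _ h
  obtain ⟨v, hv⟩ := (IsLocalization.Away.algebraMap_isUnit (S := Bs) s).exists_left_inv
  have hx : x = v ^ M • ι ⟨_, hM⟩ := Subtype.ext (by
    show (x : L) = v ^ M • (sL ^ M * (x : L))
    rw [Algebra.smul_def, map_pow, ← mul_assoc, ← mul_pow]
    show _ = (algebraMap Bs L v * algebraMap B L s) ^ M * _
    rw [IsScalarTower.algebraMap_apply B Bs L, ← map_mul, hv, map_one, one_pow, one_mul])
  rw [hx]
  exact Submodule.smul_mem _ _ (hspan _)

/-- A height one closed point of a domain of finite type over a Nagata ring has a basic open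
neighbourhood with finite normalization in every finite extension of the fraction field. -/
theorem exists_finite_integralClosure_away {R B L : Type u} [CommRing R] [IsNoetherianRing R]
    (hN : ∀ (p : Ideal R) [p.IsPrime], CAlg.IsN2 (R ⧸ p)) [CommRing B] [IsDomain B] [Algebra R B]
    [Algebra.FiniteType R B] (z : Ideal B) [z.IsMaximal]
    (himm : ∀ P : Ideal B, P.IsPrime → P ≤ z → P = ⊥ ∨ P = z)
    [Field L] [Algebra B L] (hBL : Function.Injective (algebraMap B L))
    (hfin : ∀ (K : Type u) [Field K] [Algebra B K] [IsFractionRing B K] [Algebra K L]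
      [IsScalarTower B K L], FiniteDimensional K L) :
    ∃ s : B, s ∉ z ∧ ∀ (Bs : Type u) [CommRing Bs] [Algebra B Bs] [IsLocalization.Away s Bs]
      [Algebra Bs L] [IsScalarTower B Bs L], Module.Finite Bs (integralClosure Bs L) := by
  let K := FractionRing B
  let _ : Algebra K L := (IsFractionRing.lift hBL).toAlgebra
  have : IsScalarTower B K L := .of_algebraMap_eq fun x ↦
    (IsFractionRing.lift_algebraMap hBL x).symm
  have : FiniteDimensional K L := hfin K
  by_cases hpz : ∀ a : R, algebraMap R B a ∈ z → algebraMap R B a = 0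
  · -- the curve lies in one fibre
    let p : Ideal R := z.comap (algebraMap R B)
    let _ : Algebra (R ⧸ p) (B ⧸ z) := (Ideal.quotientMap z (algebraMap R B) le_rfl).toAlgebra
    have : IsScalarTower R (R ⧸ p) (B ⧸ z) := .of_algebraMap_eq fun _ ↦ rfl
    let _ : Field (B ⧸ z) := Ideal.Quotient.field z
    have : Algebra.FiniteType R (B ⧸ z) :=
      .of_surjective (Ideal.Quotient.mkₐ R z) Ideal.Quotient.mk_surjective
    have : Algebra.FiniteType (R ⧸ p) (B ⧸ z) :=
      Algebra.FiniteType.of_restrictScalars_finiteType R _ _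
    obtain ⟨r', hr', hdvd⟩ := exists_forall_dvd_pow (R₀ := R ⧸ p) (F := B ⧸ z)
      Ideal.quotientMap_injective
    obtain ⟨r, rfl⟩ := Ideal.Quotient.mk_surjective r'
    have hr : algebraMap R B r ∉ z := fun h ↦ hr' (Ideal.Quotient.eq_zero_iff_mem.mpr h)
    refine ⟨algebraMap R B r, hr, fun Bs _ _ _ _ _ ↦ ?_⟩
    have hsub : Submonoid.powers (algebraMap R B r) ≤ nonZeroDivisors B :=
      powers_le_nonZeroDivisors_of_noZeroDivisors fun h ↦ hr (h ▸ z.zero_mem)
    have : IsDomain Bs := IsLocalization.isDomain_of_le_nonZeroDivisors Bs hsub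
    let k := Localization.Away (Ideal.Quotient.mk p r)
    have hk : IsField k := by
      have hsub' : Submonoid.powers (Ideal.Quotient.mk p r) ≤ nonZeroDivisors (R ⧸ p) :=
        powers_le_nonZeroDivisors_of_noZeroDivisors hr'
      have : IsDomain k := IsLocalization.isDomain_of_le_nonZeroDivisors k hsub'
      refine ⟨⟨0, 1, zero_ne_one⟩, mul_comm, fun {x} hx ↦ ?_⟩
      obtain ⟨n, a, ha⟩ := IsLocalization.Away.surj (Ideal.Quotient.mk p r) x
      have hunit := IsLocalization.Away.algebraMap_isUnit (S := k) (Ideal.Quotient.mk p r)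
      have ha0 : a ≠ 0 := fun h ↦ hx ((hunit.pow n).mul_left_eq_zero.mp (by rw [ha, h, map_zero]))
      obtain ⟨m, b, hb⟩ := hdvd a ha0
      have : IsUnit (x * algebraMap _ k (Ideal.Quotient.mk p r) ^ n) := by
        rw [ha]
        exact isUnit_of_mul_isUnit_left (y := algebraMap _ k b)
          (by rw [← map_mul, ← hb, map_pow]; exact hunit.pow m)
      exact (isUnit_of_mul_isUnit_left this).exists_right_inv
    let _ : Field k := hk.toField
    let g : R ⧸ p →+* Bs := Ideal.Quotient.lift p ((algebraMap B Bs).comp (algebraMap R B))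
      fun a ha ↦ by rw [RingHom.comp_apply, hpz a ha, map_zero]
    let φ : k →+* Bs := IsLocalization.Away.lift (g := g) (Ideal.Quotient.mk p r)
      (IsLocalization.Away.algebraMap_isUnit (S := Bs) (algebraMap R B r))
    let _ : Algebra k Bs := φ.toAlgebra
    let _ : Algebra R Bs := ((algebraMap B Bs).comp (algebraMap R B)).toAlgebra
    have : IsScalarTower R k Bs := .of_algebraMap_eq fun a ↦ by
      rw [IsScalarTower.algebraMap_apply R (R ⧸ p) k]
      show _ = φ (algebraMap (R ⧸ p) k (Ideal.Quotient.mk p a))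
      exact (RingHom.congr_fun (IsLocalization.Away.lift_comp (g := g) (Ideal.Quotient.mk p r)
        (IsLocalization.Away.algebraMap_isUnit (S := Bs) (algebraMap R B r)))
        (Ideal.Quotient.mk p a)).symm
    have : IsScalarTower R B Bs := .of_algebraMap_eq fun _ ↦ rfl
    have : Algebra.FiniteType B Bs := IsLocalization.finiteType_of_monoid_fg (.powers (algebraMap R B r)) _
    have : Algebra.FiniteType R Bs := Algebra.FiniteType.trans (S := B) inferInstance inferInstance
    have : Algebra.FiniteType k Bs := Algebra.FiniteType.of_restrictScalars_finiteType R k Bs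
    let _ : Algebra Bs K := (IsLocalization.lift (M := .powers (algebraMap R B r))
      (g := algebraMap B K) (fun y ↦ (IsLocalization.map_units (M := nonZeroDivisors B) K
        ⟨y.1, hsub y.2⟩))).toAlgebra
    have : IsScalarTower B Bs K := .of_algebraMap_eq fun x ↦ (IsLocalization.lift_eq _ x).symm
    have : IsFractionRing Bs K :=
      IsFractionRing.isFractionRing_of_isDomain_of_isLocalization (.powers (algebraMap R B r)) Bs K
    have : IsScalarTower Bs K L := .of_algebraMap_eq' <| IsLocalization.ringHom_ext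
      (Submonoid.powers (algebraMap R B r)) <| by
        rw [← IsScalarTower.algebraMap_eq, RingHom.comp_assoc, ← IsScalarTower.algebraMap_eq,
          ← IsScalarTower.algebraMap_eq]
    exact finite_integralClosure_of_finiteType_field k Bs K L
  -- the curve is quasi-finite over the base at `z`
  push Not at hpz
  obtain ⟨a₀, ha₀, ha₀'⟩ := hpz
  let p' : Ideal R := RingHom.ker (algebraMap R B)
  have : p'.IsPrime := RingHom.ker_isPrime _
  let R₀ := R ⧸ p'
  let _ : Algebra R₀ B := (Ideal.Quotient.lift p' (algebraMap R B) fun _ h ↦ h).toAlgebra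
  have : IsScalarTower R R₀ B := .of_algebraMap_eq fun _ ↦ rfl
  have hinj₀ : Function.Injective (algebraMap R₀ B) :=
    RingHom.lift_injective_of_ker_le_ideal p' (fun _ h ↦ h) le_rfl
  have : IsNoetherianRing R₀ := inferInstanceAs (IsNoetherianRing (R ⧸ p'))
  have : Algebra.FiniteType R₀ B := Algebra.FiniteType.of_restrictScalars_finiteType R R₀ B
  have : IsNoetherianRing B := Algebra.FiniteType.isNoetherianRing R₀ B
  have hqf : Algebra.QuasiFiniteAt R₀ z := by
    refine Algebra.QuasiFiniteAt.of_isOpen_singleton_fiber ⟨z, inferInstance⟩ ?_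
    let pz : Ideal R₀ := z.comap (algebraMap R₀ B)
    have hfinS : ((pz.map (algebraMap R₀ B)).minimalPrimes).Finite :=
      Ideal.finite_minimalPrimes_of_isNoetherianRing _ _
    have hclosed : IsClosed (⋃ Q ∈ {Q ∈ (pz.map (algebraMap R₀ B)).minimalPrimes | Q ≠ z},
        PrimeSpectrum.zeroLocus (Q : Set B)) :=
      (hfinS.subset fun Q hQ ↦ hQ.1).isClosed_biUnion fun Q _ ↦ PrimeSpectrum.isClosed_zeroLocus _
    convert hclosed.isOpen_compl.preimage continuous_subtype_val using 1
    ext ⟨x, hx⟩
    have hx' : x.asIdeal.comap (algebraMap R₀ B) = pz := congrArg PrimeSpectrum.asIdeal hx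
    simp only [Set.mem_singleton_iff, Set.mem_preimage, Set.mem_compl_iff, Set.mem_iUnion,
      PrimeSpectrum.mem_zeroLocus, SetLike.coe_subset_coe, Set.mem_ofPred_eq,
      exists_prop, not_exists, not_and]
    constructor
    · intro hxz Q ⟨hQ, hne⟩ hQz
      obtain rfl : x = ⟨z, inferInstance⟩ := congrArg Subtype.val hxz
      rcases himm Q hQ.1.1 hQz with rfl | rfl
      · apply ha₀'
        have : algebraMap R₀ B (Ideal.Quotient.mk p' a₀) ∈ (⊥ : Ideal B) :=
          hQ.1.2 (Ideal.mem_map_of_mem _ (show algebraMap R₀ B _ ∈ z from ha₀))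
        exact this
      · exact hne rfl
    · intro h
      obtain ⟨Q, hQ, hQx⟩ := Ideal.exists_minimalPrimes_le
        (I := pz.map (algebraMap R₀ B)) (J := x.asIdeal) (Ideal.map_le_iff_le_comap.mpr hx'.ge)
      by_cases hQz : Q = z
      · subst hQz
        exact Subtype.ext (PrimeSpectrum.ext (Ideal.IsMaximal.eq_of_le inferInstance x.2.ne_top hQx).symm)
      · exact absurd hQx (h Q ⟨hQ, hQz⟩)
  obtain ⟨s, hs, hsint, hzmt⟩ := Algebra.zariskisMainProperty_iff.mp
    (Algebra.ZariskisMainProperty.of_finiteType_of_weaklyQuasiFiniteAt (R := R₀) z)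
  refine ⟨s, hs, fun Bs _ _ _ _ _ ↦ ?_⟩
  let _ : Algebra R₀ L := ((algebraMap B L).comp (algebraMap R₀ B)).toAlgebra
  have : IsScalarTower R₀ B L := .of_algebraMap_eq fun _ ↦ rfl
  let _ : Algebra R₀ Bs := ((algebraMap B Bs).comp (algebraMap R₀ B)).toAlgebra
  have : IsScalarTower R₀ B Bs := .of_algebraMap_eq fun _ ↦ rfl
  let K₀ := FractionRing R₀
  have hR₀L : Function.Injective (algebraMap R₀ L) := hBL.comp hinj₀
  let _ : Algebra K₀ L := (IsFractionRing.lift hR₀L).toAlgebra
  have : IsScalarTower R₀ K₀ L := .of_algebraMap_eq fun x ↦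
    (IsFractionRing.lift_algebraMap hR₀L x).symm
  have hR₀K : Function.Injective (algebraMap R₀ K) := by
    rw [IsScalarTower.algebraMap_eq R₀ B K]
    exact (IsFractionRing.injective B K).comp hinj₀
  let _ : Algebra K₀ K := (IsFractionRing.lift hR₀K).toAlgebra
  have : IsScalarTower R₀ K₀ K := .of_algebraMap_eq fun x ↦
    (IsFractionRing.lift_algebraMap hR₀K x).symm
  have : IsScalarTower K₀ K L := .of_algebraMap_eq' <| IsLocalization.ringHom_ext
    (nonZeroDivisors R₀) <| by
      rw [← IsScalarTower.algebraMap_eq, RingHom.comp_assoc, ← IsScalarTower.algebraMap_eq,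
        IsScalarTower.algebraMap_eq R₀ B K, ← RingHom.comp_assoc, ← IsScalarTower.algebraMap_eq,
        ← IsScalarTower.algebraMap_eq]
  have : FiniteDimensional K₀ K := by
    obtain ⟨t, ht⟩ := (inferInstance : Algebra.FiniteType R₀ B).out
    let E : IntermediateField K₀ K := IntermediateField.adjoin K₀ (algebraMap B K '' (t : Set B))
    have hint : ∀ b : B, IsIntegral K₀ (algebraMap B K b) := by
      intro b
      obtain ⟨m, hm⟩ := hzmt b
      have h1 : IsIntegral K₀ (algebraMap B K (s ^ m * b)) :=
        (hm.map (IsScalarTower.toAlgHom R₀ B K)).tower_top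
      have h2 : IsIntegral K₀ (algebraMap B K s) :=
        (hsint.map (IsScalarTower.toAlgHom R₀ B K)).tower_top
      have h3 : algebraMap B K b = (algebraMap B K s ^ m)⁻¹ * algebraMap B K (s ^ m * b) := by
        rw [map_mul, map_pow, ← mul_assoc, inv_mul_cancel₀ (pow_ne_zero _ fun h ↦ ?_), one_mul]
        exact hs ((IsFractionRing.injective B K (h.trans (map_zero _).symm)) ▸ z.zero_mem)
      rw [h3]
      exact (h2.pow m).inv.mul h1
    have : Finite (algebraMap B K '' (t : Set B)) := (t.finite_toSet.image _).to_subtype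
    have : FiniteDimensional K₀ E := IntermediateField.finiteDimensional_adjoin (by
      rintro _ ⟨b, -, rfl⟩; exact hint b)
    have hB : ∀ b : B, algebraMap B K b ∈ E := by
      intro b
      have : b ∈ Algebra.adjoin R₀ (t : Set B) := ht ▸ trivial
      induction this using Algebra.adjoin_induction with
      | mem x hx => exact IntermediateField.subset_adjoin _ _ ⟨x, hx, rfl⟩
      | algebraMap r =>
        rw [← IsScalarTower.algebraMap_apply, IsScalarTower.algebraMap_apply R₀ K₀ K]
        exact E.algebraMap_mem _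
      | add x y _ _ hx hy => rw [map_add]; exact add_mem hx hy
      | mul x y _ _ hx hy => rw [map_mul]; exact mul_mem hx hy
    have : E = ⊤ := eq_top_iff.mpr fun x _ ↦ by
      obtain ⟨a, b, -, rfl⟩ := IsFractionRing.div_surjective B x
      exact div_mem (hB a) (hB b)
    exact Module.Finite.of_surjective E.val.toLinearMap fun x ↦ ⟨⟨x, this ▸ trivial⟩, rfl⟩
  have : FiniteDimensional K₀ L := Module.Finite.trans K L
  have : Module.Finite R₀ (integralClosure R₀ L) := hN p' L inferInstance
  exact finite_integralClosure_away s hzmt hsint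

/-- A height one closed point of a domain of finite type over a Nagata ring is the image of a closed
point with discrete valuation ring as local ring on a normal model with prescribed finite extension
of the function field. -/
theorem exists_normal_model {R B L : Type u} [CommRing R] [IsNoetherianRing R]
    (hN : ∀ (p : Ideal R) [p.IsPrime], CAlg.IsN2 (R ⧸ p)) [CommRing B] [IsDomain B] [Algebra R B]
    [Algebra.FiniteType R B] (z : Ideal B) [z.IsMaximal] (hz : z ≠ ⊥)
    (himm : ∀ P : Ideal B, P.IsPrime → P ≤ z → P = ⊥ ∨ P = z)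
    [Field L] [Algebra B L] (hBL : Function.Injective (algebraMap B L))
    (hfin : ∀ (K : Type u) [Field K] [Algebra B K] [IsFractionRing B K] [Algebra K L]
      [IsScalarTower B K L], FiniteDimensional K L) :
    ∃ (D : Type u) (_ : CommRing D) (_ : IsDomain D) (_ : Algebra B D) (_ : Algebra D L)
      (_ : IsScalarTower B D L), Algebra.FiniteType B D ∧ IsIntegrallyClosed D ∧
      IsFractionRing D L ∧ ∃ (c : Ideal D) (_ : c.IsMaximal),
        c.comap (algebraMap B D) = z ∧ IsDiscreteValuationRing (Localization.AtPrime c) := by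
  obtain ⟨s, hs, hfinD⟩ := exists_finite_integralClosure_away hN z himm hBL hfin
  let K := FractionRing B
  let _ : Algebra K L := (IsFractionRing.lift hBL).toAlgebra
  have : IsScalarTower B K L := .of_algebraMap_eq fun x ↦
    (IsFractionRing.lift_algebraMap hBL x).symm
  have : FiniteDimensional K L := hfin K
  let Bs := Localization.Away s
  have hsub : Submonoid.powers s ≤ nonZeroDivisors B :=
    powers_le_nonZeroDivisors_of_noZeroDivisors fun h ↦ hs (h ▸ z.zero_mem)
  have : IsDomain Bs := IsLocalization.isDomain_of_le_nonZeroDivisors Bs hsub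
  let _ : Algebra Bs K := (IsLocalization.lift (M := .powers s) (g := algebraMap B K)
    fun y ↦ IsLocalization.map_units (M := nonZeroDivisors B) K ⟨y.1, hsub y.2⟩).toAlgebra
  have : IsScalarTower B Bs K := .of_algebraMap_eq fun x ↦ (IsLocalization.lift_eq _ x).symm
  have : IsFractionRing Bs K :=
    IsFractionRing.isFractionRing_of_isDomain_of_isLocalization (.powers s) Bs K
  let _ : Algebra Bs L := ((algebraMap K L).comp (algebraMap Bs K)).toAlgebra
  have : IsScalarTower Bs K L := .of_algebraMap_eq fun _ ↦ rfl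
  have : IsScalarTower B Bs L := .of_algebraMap_eq fun x ↦ by
    rw [IsScalarTower.algebraMap_apply Bs K L, ← IsScalarTower.algebraMap_apply B Bs K,
      ← IsScalarTower.algebraMap_apply]
  let D := integralClosure Bs L
  have : Module.Finite Bs D := hfinD Bs
  have : IsFractionRing D L := IsIntegralClosure.isFractionRing_of_finite_extension Bs K L D
  have hnormal : IsIntegrallyClosed D := integralClosure.isIntegrallyClosedOfFiniteExtension K
  have : Algebra.FiniteType B Bs := IsLocalization.finiteType_of_monoid_fg (.powers s) _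
  have : Algebra.FiniteType R Bs := Algebra.FiniteType.trans (S := B) inferInstance inferInstance
  have : IsNoetherianRing Bs := Algebra.FiniteType.isNoetherianRing R Bs
  have : IsScalarTower B Bs D := .of_algebraMap_eq fun x ↦
    Subtype.ext (IsScalarTower.algebraMap_apply B Bs L x)
  have : IsScalarTower B D L := .of_algebraMap_eq fun _ ↦ rfl
  have : Algebra.FiniteType B D := Algebra.FiniteType.trans (S := Bs) inferInstance inferInstance
  have : IsNoetherianRing D := IsNoetherianRing.of_finite Bs D
  let zs := z.map (algebraMap B Bs)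
  have hdisj : Disjoint (Submonoid.powers s : Set B) z := Set.disjoint_left.mpr fun x hx hxz ↦ by
    obtain ⟨n, rfl⟩ := hx
    exact hs (Ideal.IsPrime.mem_of_pow_mem inferInstance n hxz)
  have hzs : zs.comap (algebraMap B Bs) = z :=
    IsLocalization.comap_map_of_isPrime_disjoint (.powers s) Bs ‹z.IsMaximal›.isPrime hdisj
  have hzsp : zs.IsPrime :=
    IsLocalization.isPrime_of_isPrime_disjoint (.powers s) Bs z ‹z.IsMaximal›.isPrime hdisj
  have : zs.IsMaximal := by
    obtain ⟨M, hM, hle⟩ := Ideal.exists_le_maximal zs hzsp.ne_top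
    have : z = M.comap (algebraMap B Bs) := Ideal.IsMaximal.eq_of_le inferInstance
      (Ideal.comap_ne_top _ hM.ne_top) (hzs.symm.le.trans (Ideal.comap_mono hle))
    rwa [show zs = M by
      show z.map _ = M
      rw [this, IsLocalization.map_comap (.powers s) Bs]]
  have hBsD : Function.Injective (algebraMap Bs D) := fun x y h ↦ IsFractionRing.injective Bs K
    ((algebraMap K L).injective (congrArg Subtype.val h))
  obtain ⟨c, hc, hcz⟩ := Ideal.exists_ideal_over_maximal_of_isIntegral (S := D) zs
    (by rw [(RingHom.injective_iff_ker_eq_bot _).mp hBsD]; exact bot_le)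
  have hcomap : ∀ P : Ideal D,
      P.comap (algebraMap B D) = (P.comap (algebraMap Bs D)).comap (algebraMap B Bs) := fun P ↦ by
    rw [Ideal.comap_comap, ← IsScalarTower.algebraMap_eq]
  refine ⟨D, inferInstance, inferInstance, inferInstance, inferInstance, inferInstance,
    inferInstance, hnormal, inferInstance, c, hc, by rw [hcomap, hcz, hzs], ?_⟩
  let A := Localization.AtPrime c
  have hc0 : c ≠ ⊥ := fun h ↦ hz (by
    rw [← hzs, ← hcz, h, Ideal.comap_bot_of_injective _ hBsD,
      Ideal.comap_bot_of_injective _ (IsLocalization.injective Bs hsub)])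
  have : IsDomain A :=
    IsLocalization.isDomain_of_le_nonZeroDivisors A c.primeCompl_le_nonZeroDivisors
  have hnf : ¬ IsField A := by
    intro hf
    have h1 := IsLocalRing.isField_iff_maximalIdeal_eq.mp hf
    have h2 : (IsLocalRing.maximalIdeal A).comap (algebraMap D A) = c :=
      Localization.AtPrime.under_maximalIdeal
    rw [h1, Ideal.comap_bot_of_injective _
      (IsLocalization.injective A c.primeCompl_le_nonZeroDivisors)] at h2
    exact hc0 h2.symm
  have : IsNoetherianRing A := IsLocalization.isNoetherianRing c.primeCompl A inferInstance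
  have htfae : IsDiscreteValuationRing A ↔
      IsIntegrallyClosed A ∧ ∃! P : Ideal A, P ≠ ⊥ ∧ P.IsPrime :=
    (IsDiscreteValuationRing.TFAE A hnf).out 0 3
  refine htfae.mpr
    ⟨isIntegrallyClosed_of_isLocalization A c.primeCompl c.primeCompl_le_nonZeroDivisors,
      IsLocalRing.maximalIdeal A,
      ⟨fun h ↦ hnf (IsLocalRing.isField_iff_maximalIdeal_eq.mpr h), inferInstance⟩, ?_⟩
  rintro P ⟨hP0, hP⟩
  by_contra hPne
  have hPlt : P < IsLocalRing.maximalIdeal A :=
    lt_of_le_of_ne (IsLocalRing.le_maximalIdeal hP.ne_top) hPne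
  let P' := P.comap (algebraMap D A)
  have hP'c : P' < c := by
    have h1 : P' < (IsLocalRing.maximalIdeal A).comap (algebraMap D A) := by
      refine lt_of_le_of_ne (Ideal.comap_mono hPlt.le) fun h ↦ hPne ?_
      rw [← IsLocalization.map_comap c.primeCompl A P,
        ← IsLocalization.map_comap c.primeCompl A (IsLocalRing.maximalIdeal A)]
      exact congrArg (Ideal.map _) h
    exact h1.trans_eq Localization.AtPrime.under_maximalIdeal
  have hP' : P'.IsPrime := inferInstance
  have hlt : P'.comap (algebraMap Bs D) < c.comap (algebraMap Bs D) :=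
    Ideal.IsIntegral.comap_lt_comap hP'c
  rcases himm (P'.comap (algebraMap B D)) inferInstance
    (by rw [hcomap]; exact (Ideal.comap_mono hlt.le).trans (by rw [hcz, hzs])) with h | h
  · refine hP0 ?_
    have h1 : P'.comap (algebraMap Bs D) = ⊥ := by
      rw [← IsLocalization.map_comap (.powers s) Bs (P'.comap (algebraMap Bs D)), Ideal.under_def, ← hcomap, h,
        Ideal.map_bot]
    rw [← IsLocalization.map_comap c.primeCompl A P, Ideal.under_def,
      show P.comap (algebraMap D A) = ⊥ from Ideal.eq_bot_of_comap_eq_bot h1, Ideal.map_bot]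
  · refine hlt.ne ?_
    rw [hcz, ← IsLocalization.map_comap (.powers s) Bs (P'.comap (algebraMap Bs D)), Ideal.under_def, ← hcomap, h]

end NormFinLib
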