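import Groth.Agent.NormFin.SchemeCurve
import Groth.Agent.DvrDom.UniversallyClosed
import Groth.Agent.DvrDom.Mono

/-!
# Valuative criteria tested on normal curves over a Nagata scheme
-/

set_option autoImplicit false

universe u

open CategoryTheory Limits AlgebraicGeometry DvrDomLib TopologicalSpace Topology

namespace NormFinLib

/-- A nonempty constructible subset of an affine scheme has a point which is closed in a basic open,
and contains a basic open part of the closure of each of its points. -/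
theorem exists_basicOpen_closed_point {R : Type u} [CommRing R] {s : Set (PrimeSpectrum R)}
    (hs : IsConstructible s) (hne : s.Nonempty) :
    ∃ (f : R) (z : PrimeSpectrum R), z ∈ s ∧ f ∉ z.asIdeal ∧
      ∀ z' : PrimeSpectrum R, z.asIdeal ≤ z'.asIdeal → f ∉ z'.asIdeal → z' = z := by
  classical
  obtain ⟨S, rfl⟩ := PrimeSpectrum.exists_constructibleSetData_iff.mpr hs
  obtain ⟨v, hv⟩ := hne
  obtain ⟨C, hC, hvg, hvf⟩ := Set.mem_iUnion₂.mp hv
  have hvf : C.f ∉ v.asIdeal := fun h ↦ hvf (by simpa [PrimeSpectrum.mem_zeroLocus] using h)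
  let L := Localization.Away C.f
  have hdisj : Disjoint (Submonoid.powers C.f : Set R) v.asIdeal := Set.disjoint_left.mpr
    fun x hx hxv ↦ by
      obtain ⟨n, rfl⟩ := hx
      exact hvf (v.2.mem_of_pow_mem n hxv)
  obtain ⟨M, hM, hle⟩ := Ideal.exists_le_maximal (v.asIdeal.map (algebraMap R L))
    (IsLocalization.isPrime_of_isPrime_disjoint (.powers C.f) L _ v.2 hdisj).ne_top
  have hvM : v.asIdeal ≤ M.comap (algebraMap R L) := Ideal.map_le_iff_le_comap.mp hle
  have hMf : C.f ∉ M.comap (algebraMap R L) := fun h ↦ hM.ne_top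
    (Ideal.eq_top_of_isUnit_mem _ h (IsLocalization.Away.algebraMap_isUnit C.f))
  refine ⟨C.f, ⟨M.comap (algebraMap R L), inferInstance⟩,
    Set.mem_iUnion₂.mpr ⟨C, hC, fun _ hx ↦ hvM (hvg hx), fun h ↦ hMf (h rfl)⟩, hMf, fun z' hle' hz' ↦ ?_⟩
  have hd' : Disjoint (Submonoid.powers C.f : Set R) z'.asIdeal := Set.disjoint_left.mpr
    fun x hx hxv ↦ by
      obtain ⟨n, rfl⟩ := hx
      exact hz' (z'.2.mem_of_pow_mem n hxv)
  have h1 : M ≤ z'.asIdeal.map (algebraMap R L) := by
    rw [← IsLocalization.map_comap (.powers C.f) L M]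
    exact Ideal.map_mono hle'
  have h2 := hM.eq_of_le
    (IsLocalization.isPrime_of_isPrime_disjoint (.powers C.f) L _ z'.2 hd').ne_top h1
  apply PrimeSpectrum.ext
  show _ = M.comap (algebraMap R L)
  rw [h2]
  exact (IsLocalization.comap_map_of_isPrime_disjoint (.powers C.f) L z'.2 hd').symm

/-- A constructible set contains a basic open part of the closure of each of its points. -/
theorem exists_forall_mem_of_notMem {R : Type u} [CommRing R] {s : Set (PrimeSpectrum R)}
    (hs : IsConstructible s) (v : PrimeSpectrum R) (hv : v ∈ s) :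
    ∃ h : R, h ∉ v.asIdeal ∧
      ∀ v' : PrimeSpectrum R, v.asIdeal ≤ v'.asIdeal → h ∉ v'.asIdeal → v' ∈ s := by
  obtain ⟨S, rfl⟩ := PrimeSpectrum.exists_constructibleSetData_iff.mpr hs
  obtain ⟨C, hC, hvg, hvf⟩ := Set.mem_iUnion₂.mp hv
  refine ⟨C.f, fun h ↦ hvf (by simpa [PrimeSpectrum.mem_zeroLocus] using h), fun v' hle hf ↦
    Set.mem_iUnion₂.mpr ⟨C, hC, fun _ hx ↦ hle (hvg hx), fun h ↦ hf (h rfl)⟩⟩

variable {X Y S : Scheme.{u}}

/-- In an affine open, a point outside a basic open part can be approached by an immediate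
specialization inside that part. -/
theorem exists_immediate {V : X.Opens} (hV : IsAffineOpen V) [IsNoetherianRing Γ(X, V)]
    (η z : PrimeSpectrum Γ(X, V)) (hle : η.asIdeal ≤ z.asIdeal) (h : Γ(X, V))
    (hη : h ∉ η.asIdeal) (hz : h ∈ z.asIdeal) :
    ∃ q : PrimeSpectrum Γ(X, V), η.asIdeal ≤ q.asIdeal ∧ h ∉ q.asIdeal ∧
      hV.fromSpec q ⤳ hV.fromSpec z ∧ hV.fromSpec q ≠ hV.fromSpec z ∧
      ∀ v : X, hV.fromSpec q ⤳ v → v ⤳ hV.fromSpec z →
        v = hV.fromSpec q ∨ v = hV.fromSpec z := by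
  obtain ⟨q, hq, hηq, hqz, hhq, himm⟩ :=
    exists_prime_immediate_notMem z.asIdeal h hz η.asIdeal hle hη
  refine ⟨⟨q, hq⟩, hηq, hhq,
    ((PrimeSpectrum.le_iff_specializes ⟨q, hq⟩ z).mp hqz.le).map hV.fromSpec.continuous,
    fun e ↦ hqz.ne (congrArg PrimeSpectrum.asIdeal (hV.fromSpec.isOpenEmbedding.injective e)),
    fun v h1 h2 ↦ ?_⟩
  obtain ⟨t, rfl⟩ : v ∈ Set.range hV.fromSpec := by
    rw [hV.range_fromSpec]
    refine h2.mem_open V.isOpen ?_
    rw [← hV.range_fromSpec]
    exact Set.mem_range_self _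
  rw [hV.fromSpec.isOpenEmbedding.isInducing.specializes_iff] at h1 h2
  rcases himm t.asIdeal t.2 ((PrimeSpectrum.le_iff_specializes ⟨q, hq⟩ t).mpr h1)
    ((PrimeSpectrum.le_iff_specializes t z).mpr h2) with e | e
  · exact Or.inl (congrArg _ (PrimeSpectrum.ext e))
  · exact Or.inr (congrArg _ (PrimeSpectrum.ext e))

/-- The generic point of an integral scheme inside its local rings. -/
theorem exists_fractionRing_hom {C : Scheme.{u}} [IsIntegral C] (c : C) :
    ∃ e : Spec (CommRingCat.of (FractionRing (C.presheaf.stalk c))) ⟶ Spec C.functionField,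
      Spec.map (CommRingCat.ofHom (algebraMap (C.presheaf.stalk c)
          (FractionRing (C.presheaf.stalk c)))) ≫ C.fromSpecStalk c =
        e ≫ C.fromSpecStalk (genericPoint C) := by
  let e : C.functionField ≃ₐ[C.presheaf.stalk c] FractionRing (C.presheaf.stalk c) :=
    (FractionRing.algEquiv (C.presheaf.stalk c) C.functionField).symm
  refine ⟨Spec.map (CommRingCat.ofHom e.toRingEquiv.toRingHom), ?_⟩
  rw [← Scheme.SpecMap_stalkSpecializes_fromSpecStalk
    ((genericPoint_spec C).specializes (Set.mem_univ c)), ← Spec.map_comp_assoc]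
  congr 2
  ext a
  exact (e.commutes a).symm

theorem genericPoint_ne {C : Scheme.{u}} [IsIntegral C] {c : C}
    (hdim : ringKrullDim (C.presheaf.stalk c) = 1) : genericPoint C ≠ c := by
  rintro rfl
  rw [ringKrullDim_eq_zero_of_isField (Field.toIsField C.functionField)] at hdim
  exact zero_ne_one hdim

theorem genericPoint_specializes' {C : Scheme.{u}} [IsIntegral C] (x : C) : genericPoint C ⤳ x :=
  (genericPoint_spec C).specializes (Set.mem_univ x)

theorem genericPoint_mem {C : Scheme.{u}} [IsIntegral C] (U : C.Opens) {x : C} (hx : x ∈ U) :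
    genericPoint C ∈ U :=
  (genericPoint_specializes' x).mem_open U.isOpen hx

/-- Lifting the generic point of the local ring at `c` to the punctured curve. -/
theorem exists_punctured_lift {C : Scheme.{u}} [IsIntegral C] {c : C}
    (hdim : ringKrullDim (C.presheaf.stalk c) = 1) (U : C.Opens) (hU : (U : Set C) = {c}ᶜ) :
    ∃ k : Spec (CommRingCat.of (FractionRing (C.presheaf.stalk c))) ⟶ (U : Scheme.{u}),
      k ≫ U.ι = Spec.map (CommRingCat.ofHom (algebraMap (C.presheaf.stalk c)
        (FractionRing (C.presheaf.stalk c)))) ≫ C.fromSpecStalk c := by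
  obtain ⟨e, he⟩ := exists_fractionRing_hom c
  refine ⟨IsOpenImmersion.lift U.ι _ ?_, IsOpenImmersion.lift_fac _ _ _⟩
  rw [he, Scheme.Opens.range_ι]
  rintro _ ⟨t, rfl⟩
  rw [Scheme.Hom.comp_apply, SetLike.mem_coe, ← SetLike.mem_coe, hU]
  have : Subsingleton (Spec C.functionField) :=
    inferInstanceAs (Subsingleton (PrimeSpectrum C.functionField))
  rw [Subsingleton.elim (e t) (IsLocalRing.closedPoint _), Scheme.fromSpecStalk_closedPoint]
  exact genericPoint_ne hdim

/-- A point closed in an affine open of an open subscheme stays so. -/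
theorem exists_open_closed_point {V : X.Opens} (hV : IsAffineOpen V) (f : Γ(X, V))
    (z : PrimeSpectrum Γ(X, V)) (hzf : f ∉ z.asIdeal)
    (hmax : ∀ z' : PrimeSpectrum Γ(X, V), z.asIdeal ≤ z'.asIdeal → f ∉ z'.asIdeal → z' = z) :
    ∃ W : X.Opens, hV.fromSpec z ∈ W ∧ ∀ v ∈ W, hV.fromSpec z ⤳ v → v = hV.fromSpec z := by
  refine ⟨hV.fromSpec ''ᵁ PrimeSpectrum.basicOpen f, ⟨z, hzf, rfl⟩, ?_⟩
  rintro _ ⟨t, ht, rfl⟩ h
  have h' : (z : Spec Γ(X, V)) ⤳ t :=
    hV.fromSpec.isOpenEmbedding.isInducing.specializes_iff.mp h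
  exact congrArg _ (hmax t ((PrimeSpectrum.le_iff_specializes z t).mpr h') ht)

/-- The condition on a morphism that lifts exist along punctured normal curves. -/
def CurveExistence (q : Y ⟶ S) (f : X ⟶ Y) : Prop :=
  ∀ (C : Scheme.{u}) (r : C ⟶ S) [IsIntegral C] [LocallyOfFiniteType r] [QuasiCompact r],
    (∀ x : C, IsIntegrallyClosed (C.presheaf.stalk x)) →
    ∀ (c : C), IsClosed ({c} : Set C) → ringKrullDim (C.presheaf.stalk c) = 1 →
    ∀ (U : C.Opens), (U : Set C) = {c}ᶜ →
    ∀ (u : (U : Scheme.{u}) ⟶ X) (g : C ⟶ Y), g ≫ q = r → u ≫ f = U.ι ≫ g →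
    ∀ (k : Spec (CommRingCat.of (FractionRing (C.presheaf.stalk c))) ⟶ (U : Scheme.{u})),
      k ≫ U.ι = Spec.map (CommRingCat.ofHom (algebraMap (C.presheaf.stalk c)
        (FractionRing (C.presheaf.stalk c)))) ≫ C.fromSpecStalk c →
    ∃ l : Spec (C.presheaf.stalk c) ⟶ X, l ≫ f = C.fromSpecStalk c ≫ g ∧
      Spec.map (CommRingCat.ofHom (algebraMap (C.presheaf.stalk c)
        (FractionRing (C.presheaf.stalk c)))) ≫ l = k ≫ u

/-- The condition on a morphism that lifts are unique along punctured normal curves. -/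
def CurveUniqueness (q : Y ⟶ S) (f : X ⟶ Y) : Prop :=
  ∀ (C : Scheme.{u}) (r : C ⟶ S) [IsIntegral C] [LocallyOfFiniteType r] [QuasiCompact r],
    (∀ x : C, IsIntegrallyClosed (C.presheaf.stalk x)) →
    ∀ (c : C), IsClosed ({c} : Set C) → ringKrullDim (C.presheaf.stalk c) = 1 →
    ∀ (U : C.Opens), (U : Set C) = {c}ᶜ →
    ∀ (u : (U : Scheme.{u}) ⟶ X) (g : C ⟶ Y), g ≫ q = r → u ≫ f = U.ι ≫ g →
    ∀ (k : Spec (CommRingCat.of (FractionRing (C.presheaf.stalk c))) ⟶ (U : Scheme.{u})),
      k ≫ U.ι = Spec.map (CommRingCat.ofHom (algebraMap (C.presheaf.stalk c)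
        (FractionRing (C.presheaf.stalk c)))) ≫ C.fromSpecStalk c →
    ∀ l l' : Spec (C.presheaf.stalk c) ⟶ X,
      l ≫ f = C.fromSpecStalk c ≫ g →
      Spec.map (CommRingCat.ofHom (algebraMap (C.presheaf.stalk c)
        (FractionRing (C.presheaf.stalk c)))) ≫ l = k ≫ u →
      l' ≫ f = C.fromSpecStalk c ≫ g →
      Spec.map (CommRingCat.ofHom (algebraMap (C.presheaf.stalk c)
        (FractionRing (C.presheaf.stalk c)))) ≫ l' = k ≫ u → l = l'

theorem isLocallyNoetherian_of_nagata (hS : ∀ W : S.affineOpens, CAlg.IsNagata Γ(S, W)) :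
    IsLocallyNoetherian S :=
  ⟨fun W ↦ (hS W).1⟩

theorem curveUniqueness_of_isSeparated (q : Y ⟶ S) (f : X ⟶ Y) [IsSeparated f] :
    CurveUniqueness q f := by
  intro C r _ _ _ _ c _ _ U _ u g _ _ k _ l l' hl hlu hl' hl'u
  have : IsDominant (Spec.map (CommRingCat.ofHom (algebraMap (C.presheaf.stalk c)
      (FractionRing (C.presheaf.stalk c))))) :=
    ⟨(PrimeSpectrum.denseRange_comap_iff_ker_le_nilRadical _).mpr (by
      have h0 : RingHom.ker (algebraMap (C.presheaf.stalk c)
          (FractionRing (C.presheaf.stalk c))) = ⊥ :=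
        (RingHom.injective_iff_ker_eq_bot _).mp (IsFractionRing.injective _ _)
      exact h0.le.trans bot_le)⟩
  exact ext_of_isDominant_of_isSeparated f (hl.trans hl'.symm) _ (hlu.trans hl'u.symm)

theorem isSeparated_of_curveUniqueness (hS : ∀ W : S.affineOpens, CAlg.IsNagata Γ(S, W))
    (p : X ⟶ S) (q : Y ⟶ S) [LocallyOfFiniteType p] [LocallyOfFiniteType q] (f : X ⟶ Y)
    (hf : f ≫ q = p) (H : CurveUniqueness q f) : IsSeparated f := by
  have := isLocallyNoetherian_of_nagata hS
  have : LocallyOfFiniteType (f ≫ q) := hf ▸ inferInstance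
  have : LocallyOfFiniteType f := locallyOfFiniteType_of_comp f q
  have : IsLocallyNoetherian Y := LocallyOfFiniteType.isLocallyNoetherian q
  have : IsLocallyNoetherian X := LocallyOfFiniteType.isLocallyNoetherian p
  have : IsLocallyNoetherian (pullback f f) :=
    LocallyOfFiniteType.isLocallyNoetherian (pullback.fst f f)
  have : QuasiCompact (pullback.diagonal f) := QuasiSeparated.quasiCompact_diagonal
  refine ⟨IsClosedImmersion.of_isPreimmersion _ (isClosed_of_closure_subset fun r hr ↦ ?_)⟩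
  by_contra hrn
  obtain ⟨x, hx⟩ := exists_specializes_of_mem_closure_range _ r hr
  let Δ := pullback.diagonal f
  -- the range of the diagonal is the trace of an open subset on its closure
  have hloc : closure (Set.range Δ) ∩ coborder (Set.range Δ) = Set.range Δ :=
    closure_inter_coborder
  let O : (pullback f f).Opens :=
    ⟨coborder (Set.range Δ), (Scheme.Hom.isLocallyClosed_range Δ).isOpen_coborder⟩
  obtain ⟨_, ⟨V, hV, rfl⟩, hrV, -⟩ := (pullback f f).isBasis_affineOpens.exists_subset_of_mem_open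
    (Set.mem_univ r) isOpen_univ
  have hV : IsAffineOpen V := hV
  have : IsNoetherianRing Γ(pullback f f, V) := IsLocallyNoetherian.component_noetherian ⟨V, hV⟩
  obtain ⟨r₀, rfl⟩ : r ∈ Set.range hV.fromSpec := by rw [hV.range_fromSpec]; exact hrV
  obtain ⟨η, hη⟩ : Δ x ∈ Set.range hV.fromSpec := by
    rw [hV.range_fromSpec]; exact hx.mem_open V.isOpen hrV
  rw [← hη, hV.fromSpec.isOpenEmbedding.isInducing.specializes_iff] at hx
  have hηr : η.asIdeal ≤ r₀.asIdeal := (PrimeSpectrum.le_iff_specializes η r₀).mpr hx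
  obtain ⟨M, hM, hrM⟩ := Ideal.exists_le_maximal r₀.asIdeal r₀.2.ne_top
  let z : PrimeSpectrum Γ(pullback f f, V) := ⟨M, hM.isPrime⟩
  obtain ⟨I, hI⟩ := (PrimeSpectrum.isClosed_iff_zeroLocus _).mp
    (((O.2.preimage hV.fromSpec.continuous).isClosed_compl :
      IsClosed (hV.fromSpec ⁻¹' (O : Set ↥(pullback f f)))ᶜ))
  have hrO : hV.fromSpec r₀ ∉ O := fun h ↦ hrn (hloc ▸ ⟨hr, h⟩)
  have hηO : hV.fromSpec η ∈ O := by
    rw [hη]
    exact subset_coborder (Set.mem_range_self x)
  have hrI : I ⊆ r₀.asIdeal := (Set.ext_iff.mp hI r₀).mp hrO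
  obtain ⟨h, hhI, hhη⟩ := Set.not_subset.mp (fun hle : I ⊆ η.asIdeal ↦
    (Set.ext_iff.mp hI η).mpr hle hηO)
  obtain ⟨w₀, hηw, hhw, hwz, hne, himm⟩ :=
    exists_immediate hV η z (hηr.trans hrM) h hhη (hrM (hrI hhI))
  have hwR : hV.fromSpec w₀ ∈ Set.range Δ := by
    rw [← hloc]
    refine ⟨?_, not_not.mp fun hn ↦ hhw ((Set.ext_iff.mp hI w₀).mp hn hhI)⟩
    refine (((PrimeSpectrum.le_iff_specializes η w₀).mp hηw).map hV.fromSpec.continuous).mem_closed
      isClosed_closure (subset_closure ?_)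
    rw [hη]
    exact Set.mem_range_self x
  have hzR : hV.fromSpec z ∉ Set.range Δ := fun hz ↦ by
    rw [← hloc] at hz
    exact (Set.ext_iff.mp hI z).mpr (hrI.trans hrM) hz.2
  obtain ⟨W, hzW, hWc⟩ := exists_open_closed_point hV 1 z
    (fun h ↦ hM.ne_top (Ideal.eq_top_of_isUnit_mem _ h isUnit_one))
    fun z' hle _ ↦ PrimeSpectrum.ext (hM.eq_of_le z'.2.ne_top hle).symm
  have : LocallyOfFiniteType (pullback.fst f f ≫ p) := inferInstance
  obtain ⟨a, ha⟩ := hwR
  obtain ⟨σ, hσ, -⟩ := exists_specResidueField_lift_of_mono Δ a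
  rw [← ha] at hwz hne himm
  obtain ⟨C, ρ, _, _, c, θ, h₁, h₂, hnorm, hclosed, hdim, hρc, hθ⟩ :=
    exists_curve hS (pullback.fst f f ≫ p) hwz hne himm W hzW hWc
      ((pullback f f).residueField (Δ a)) (𝟙 _) (RingHom.Finite.id _)
  let U : C.Opens := ⟨{c}ᶜ, hclosed.isOpen_compl⟩
  obtain ⟨k, hk⟩ := exists_punctured_lift hdim U rfl
  obtain ⟨e, he⟩ := exists_fractionRing_hom c
  have heq : Spec.map (CommRingCat.ofHom (algebraMap (C.presheaf.stalk c)
      (FractionRing (C.presheaf.stalk c)))) ≫ C.fromSpecStalk c ≫ ρ = (e ≫ θ ≫ σ) ≫ Δ := by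
    rw [← Category.assoc, he, Category.assoc, hθ, Spec.map_id]
    erw [Category.id_comp]
    simp only [Category.assoc, hσ]
  have hl : C.fromSpecStalk c ≫ ρ ≫ pullback.fst f f =
      C.fromSpecStalk c ≫ ρ ≫ pullback.snd f f := by
    refine H C (ρ ≫ pullback.fst f f ≫ p) hnorm c hclosed hdim U rfl
      (U.ι ≫ ρ ≫ pullback.fst f f) (ρ ≫ pullback.fst f f ≫ f) ?_ ?_ k hk _ _ ?_ ?_ ?_ ?_
    · simp only [Category.assoc, hf]
    · simp only [Category.assoc]
    · simp only [Category.assoc]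
    · rw [reassoc_of% hk]
    · simp only [Category.assoc, pullback.condition]
    · rw [reassoc_of% hk, reassoc_of% heq, reassoc_of% heq, pullback.diagonal_fst,
        pullback.diagonal_snd]
  have hfac : C.fromSpecStalk c ≫ ρ = (C.fromSpecStalk c ≫ ρ ≫ pullback.fst f f) ≫ Δ := by
    apply pullback.hom_ext
    · simp [Δ]
    · simp only [Δ, Category.assoc, pullback.diagonal_snd, Category.comp_id, hl]
  refine hzR ⟨(C.fromSpecStalk c ≫ ρ ≫ pullback.fst f f) (IsLocalRing.closedPoint _), ?_⟩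
  rw [← Scheme.Hom.comp_apply, ← hfac, Scheme.Hom.comp_apply, Scheme.fromSpecStalk_closedPoint, hρc]

/-- Lifts along a one-dimensional normal Noetherian local domain for a universally closed
morphism. -/
theorem exists_lift_of_dim_one (f : X ⟶ Y) [UniversallyClosed f] (R : CommRingCat.{u}) [IsDomain R]
    [IsLocalRing R] [IsNoetherianRing R] (hn : IsIntegrallyClosed R) (hdim : ringKrullDim R = 1)
    (i₁ : Spec (CommRingCat.of (FractionRing R)) ⟶ X) (i₂ : Spec R ⟶ Y)
    (h : i₁ ≫ f = Spec.map (CommRingCat.ofHom (algebraMap R (FractionRing R))) ≫ i₂) :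
    ∃ l : Spec R ⟶ X, l ≫ f = i₂ ∧
      Spec.map (CommRingCat.ofHom (algebraMap R (FractionRing R))) ≫ l = i₁ := by
  have hnf : ¬ IsField R := fun hf ↦ by
    rw [ringKrullDim_eq_zero_of_isField hf] at hdim
    exact zero_ne_one hdim
  have : Ring.KrullDimLE 1 R := Ring.krullDimLE_iff.mpr hdim.le
  have htfae : IsDiscreteValuationRing R ↔
      IsIntegrallyClosed R ∧ ∃! P : Ideal R, P ≠ ⊥ ∧ P.IsPrime :=
    (IsDiscreteValuationRing.TFAE R hnf).out 0 3
  have : IsDiscreteValuationRing R := htfae.mpr ⟨hn, IsLocalRing.maximalIdeal R,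
    ⟨fun h ↦ hnf (IsLocalRing.isField_iff_maximalIdeal_eq.mpr h), inferInstance⟩,
    fun P hP ↦ IsLocalRing.eq_maximalIdeal (hP.2.isMaximal_of_ne_bot hP.1)⟩
  have hex : ValuativeCriterion.Existence f :=
    (UniversallyClosed.eq_valuativeCriterion.le _ _ f inferInstance).1
  obtain ⟨l⟩ := (hex { R := R, K := FractionRing R, i₁ := i₁, i₂ := i₂, commSq := ⟨h⟩ }).exists_lift
  exact ⟨l.l, l.fac_right, l.fac_left⟩

theorem curveExistence_of_universallyClosed (q : Y ⟶ S) (f : X ⟶ Y) [UniversallyClosed f]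
    [IsLocallyNoetherian S] : CurveExistence q f := by
  intro C r _ _ _ hnorm c _ hdim U _ u g _ hu k hk
  have : IsLocallyNoetherian C := LocallyOfFiniteType.isLocallyNoetherian r
  exact exists_lift_of_dim_one f (C.presheaf.stalk c) (hnorm c) hdim (k ≫ u)
    (C.fromSpecStalk c ≫ g) (by rw [Category.assoc, hu, reassoc_of% hk])

/-- Curves detect that a morphism is closed. -/
theorem isClosedMap_of_curveExistence (hS : ∀ W : S.affineOpens, CAlg.IsNagata Γ(S, W))
    (q : Y ⟶ S) [LocallyOfFiniteType q] (f : X ⟶ Y) [LocallyOfFiniteType f] [QuasiCompact f]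
    (H : CurveExistence q f) : IsClosedMap f := by
  intro Z hZ
  have := isLocallyNoetherian_of_nagata hS
  have : IsLocallyNoetherian Y := LocallyOfFiniteType.isLocallyNoetherian q
  have : IsLocallyNoetherian X := LocallyOfFiniteType.isLocallyNoetherian f
  have hZc : IsLocallyConstructible Z := fun x ↦ by
    obtain ⟨_, ⟨V, hV, rfl⟩, hxV, -⟩ := X.isBasis_affineOpens.exists_subset_of_mem_open
      (Set.mem_univ x) isOpen_univ
    have : IsNoetherianRing Γ(X, V) := IsLocallyNoetherian.component_noetherian ⟨V, hV⟩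
    have : NoetherianSpace V := noetherianSpace_of_isAffineOpen V hV
    refine ⟨V, V.2.mem_nhds hxV, V.2, ?_⟩
    rw [← isConstructible_compl]
    exact IsRetrocompact.isConstructible
      (hZ.preimage continuous_subtype_val).isOpen_compl fun U _ _ ↦
      @NoetherianSpace.isCompact _ _ (noetherianSpace_of_isAffineOpen V hV) _
  have him := f.isLocallyConstructible_image hZc
  refine isClosed_of_closure_subset fun y hy ↦ ?_
  by_contra hyn
  obtain ⟨_, ⟨V, hV, rfl⟩, hyV, -⟩ := Y.isBasis_affineOpens.exists_subset_of_mem_open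
    (Set.mem_univ y) isOpen_univ
  have hV : IsAffineOpen V := hV
  have : IsNoetherianRing Γ(Y, V) := IsLocallyNoetherian.component_noetherian ⟨V, hV⟩
  let T : Set (PrimeSpectrum Γ(Y, V)) := hV.fromSpec ⁻¹' (f '' Z)
  have hT : IsConstructible T :=
    (him.preimage_of_isOpenEmbedding hV.fromSpec.isOpenEmbedding).isConstructible
  obtain ⟨y₀, rfl⟩ : y ∈ Set.range hV.fromSpec := by rw [hV.range_fromSpec]; exact hyV
  have hy₀ : y₀ ∈ closure T :=
    (hV.fromSpec.isOpenEmbedding.isOpenMap.preimage_closure_eq_closure_preimage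
        hV.fromSpec.continuous (f '' Z)).le hy
  -- a point of the image specializing to `y₀`
  obtain ⟨η, hηT, hηy⟩ : ∃ η ∈ T, η.asIdeal ≤ y₀.asIdeal := by
    obtain ⟨T', _, φ, hφ⟩ := PrimeSpectrum.exists_range_eq_of_isConstructible hT
    rw [← hφ, PrimeSpectrum.closure_range_comap] at hy₀
    obtain ⟨P, hP, hPle⟩ := Ideal.exists_minimalPrimes_le
      (I := (⊥ : Ideal T').comap φ) (J := y₀.asIdeal) (by rw [← RingHom.ker_eq_comap_bot]; exact hy₀)
    obtain ⟨Q, hQ, _, hQP⟩ := Ideal.exists_comap_eq_of_mem_minimalPrimes φ P hP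
    refine ⟨PrimeSpectrum.comap φ ⟨Q, hQ⟩, hφ ▸ Set.mem_range_self _, ?_⟩
    show Q.comap φ ≤ _
    rwa [hQP]
  -- a point of the closure outside the image, closed in a basic open
  obtain ⟨g₀, z, ⟨hzη, hzT⟩, hzg, hzmax⟩ := exists_basicOpen_closed_point
    (s := PrimeSpectrum.zeroLocus (η.asIdeal : Set Γ(Y, V)) \ T)
    (IsConstructible.sdiff (by
      rw [← isConstructible_compl]
      exact IsRetrocompact.isConstructible
        (PrimeSpectrum.isClosed_zeroLocus _).isOpen_compl fun U _ _ ↦ NoetherianSpace.isCompact _) hT)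
    ⟨y₀, hηy, fun h ↦ hyn h⟩
  obtain ⟨h, hhη, hh⟩ := exists_forall_mem_of_notMem hT η hηT
  obtain ⟨w₀, hηw, hhw, hwz, hne, himm⟩ := exists_immediate hV η z hzη h hhη
    (by_contra fun hn ↦ hzT (hh z hzη hn))
  obtain ⟨W, hzW, hWc⟩ := exists_open_closed_point hV g₀ z hzg hzmax
  obtain ⟨a, haZ, haw⟩ : hV.fromSpec w₀ ∈ f '' Z := hh w₀ hηw hhw
  -- a point of `Z` over `w₀` with finite residue field extension
  let w := hV.fromSpec w₀
  let F := f.fiber w
  have : LocallyOfFiniteType (f.fiberToSpecResidueField w) :=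
    inferInstanceAs (LocallyOfFiniteType (pullback.snd _ _))
  have : JacobsonSpace F := LocallyOfFiniteType.jacobsonSpace (f.fiberToSpecResidueField w)
  obtain ⟨t, htZ, htc⟩ := nonempty_inter_closedPoints (Z := f.fiberι w ⁻¹' Z)
    ⟨(f.fiberHomeo w).symm ⟨a, haw⟩, by
      rw [Set.mem_preimage, Scheme.Hom.fiberι_fiberHomeo_symm]; exact haZ⟩
    (hZ.preimage (f.fiberι w).continuous).isLocallyClosed
  have : IsClosedImmersion (F.fromSpecResidueField t) :=
    isClosed_singleton_iff_isClosedImmersion.mp htc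
  let ι : Y.residueField w ⟶ F.residueField t :=
    Spec.preimage (F.fromSpecResidueField t ≫ f.fiberToSpecResidueField w)
  have hι : Spec.map ι = F.fromSpecResidueField t ≫ f.fiberToSpecResidueField w :=
    Spec.map_preimage _
  have hιfin : ι.hom.Finite := by
    refine (IsFinite.SpecMap_iff _).mp ?_
    rw [isFinite_iff_locallyOfFiniteType_of_jacobsonSpace, hι]
    infer_instance
  obtain ⟨C, ρ, _, _, c, θ, h₁, h₂, hnorm, hclosed, hdim, hρc, hθ⟩ :=
    exists_curve hS q hwz hne himm W hzW hWc (F.residueField t) ι hιfin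
  -- spread the point out over the curve
  let φ : Spec C.functionField ⟶ X := θ ≫ F.fromSpecResidueField t ≫ f.fiberι w
  have hφ : φ ≫ f = C.fromSpecStalk (genericPoint C) ≫ ρ := by
    rw [hθ, hι]
    simp only [φ, Category.assoc]
    rw [Scheme.Hom.fiber_fac]
  let pm := Scheme.PartialMap.ofFromSpecStalk ρ f φ hφ
  have hpm := Scheme.PartialMap.ofFromSpecStalk_comp ρ f φ hφ
  have hηdom : genericPoint C ∈ pm.domain :=
    Scheme.PartialMap.mem_domain_ofFromSpecStalk ρ f φ hφ
  -- shrink the curve so that the punctured curve lies in the domain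
  let G : Set C := (pm.domain : Set C)ᶜ
  obtain ⟨Ω, hcΩ, hΩ⟩ : ∃ Ω : C.Opens, c ∈ Ω ∧ ∀ x ∈ Ω, x ≠ c → x ∈ pm.domain := by
    have : IsLocallyNoetherian C := LocallyOfFiniteType.isLocallyNoetherian (ρ ≫ q)
    have : IsNoetherianRing Γ(C, ⊤) :=
      IsLocallyNoetherian.component_noetherian ⟨⊤, isAffineOpen_top C⟩
    have : NoetherianSpace C := noetherianSpace_of_isAffine
    have hfin : {Q ∈ irreducibleComponents G | ∃ x ∈ Q, (x : C) ≠ c}.Finite :=
      NoetherianSpace.finite_irreducibleComponents.subset fun Q hQ ↦ hQ.1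
    let K : Set C := ⋃ Q ∈ {Q ∈ irreducibleComponents G | ∃ x ∈ Q, (x : C) ≠ c},
      Subtype.val '' Q
    have hK : IsClosed K := hfin.isClosed_biUnion fun Q hQ ↦
      (pm.domain.isOpen.isClosed_compl).isClosedMap_subtype_val _
        (isClosed_of_mem_irreducibleComponents Q hQ.1)
    refine ⟨⟨Kᶜ, hK.isOpen_compl⟩, ?_, fun x hx hxc ↦ by_contra fun hn ↦ hx ?_⟩
    · intro hc
      obtain ⟨Q, ⟨hQ, x, hxQ, hxc⟩, ⟨c', hcG⟩, hcQ, hc'⟩ := Set.mem_iUnion₂.mp hc
      obtain rfl : c' = c := hc'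
      obtain ⟨g, hg⟩ := QuasiSober.sober
        (hQ.1.image _
          continuous_subtype_val.continuousOn)
        ((pm.domain.isOpen.isClosed_compl).isClosedMap_subtype_val _
          (isClosed_of_mem_irreducibleComponents Q hQ))
      have hgc : g ⤳ c' := hg.specializes ⟨_, hcQ, rfl⟩
      have hgc' : g ≠ c' := by
        rintro rfl
        have : (x : C) ∈ closure {g} := by rw [hg.def]; exact ⟨x, hxQ, rfl⟩
        rw [hclosed.closure_eq] at this
        exact hxc this
      -- only the generic point generizes `c`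
      have hgη : g = genericPoint C := by
        obtain ⟨t', ht'⟩ : g ∈ Set.range (C.fromSpecStalk c') := by
          rw [Scheme.range_fromSpecStalk]; exact hgc
        have : Ring.KrullDimLE 1 (C.presheaf.stalk c') := Ring.krullDimLE_iff.mpr hdim.le
        by_cases hbot : t'.asIdeal = ⊥
        · obtain ⟨e, he⟩ := exists_fractionRing_hom c'
          let pt : Spec (CommRingCat.of (FractionRing (C.presheaf.stalk c'))) :=
            IsLocalRing.closedPoint (FractionRing (C.presheaf.stalk c'))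
          have h1 := congrArg (fun m ↦ m.base pt) he
          simp only [Scheme.Hom.comp_apply] at h1
          have : Subsingleton (Spec C.functionField) :=
            inferInstanceAs (Subsingleton (PrimeSpectrum C.functionField))
          rw [Subsingleton.elim (e pt) (IsLocalRing.closedPoint _),
            Scheme.fromSpecStalk_closedPoint] at h1
          rw [← ht', ← h1]
          congr 1
          apply PrimeSpectrum.ext
          rw [hbot]
          show ⊥ = Ideal.comap _ (IsLocalRing.maximalIdeal _)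
          rw [IsLocalRing.maximalIdeal_eq_bot]
          exact (Ideal.comap_bot_of_injective _ (IsFractionRing.injective _ _)).symm
        · have : t'.asIdeal.IsMaximal := t'.2.isMaximal_of_ne_bot hbot
          have : t' = IsLocalRing.closedPoint _ :=
            PrimeSpectrum.ext (IsLocalRing.eq_maximalIdeal this)
          rw [this, Scheme.fromSpecStalk_closedPoint] at ht'
          exact absurd ht'.symm hgc'
      have hgG : g ∈ G := by
        obtain ⟨⟨_, hG⟩, -, rfl⟩ : g ∈ Subtype.val '' Q := hg.mem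
        exact hG
      exact hgG (hgη ▸ hηdom)
    · exact Set.mem_iUnion₂.mpr ⟨irreducibleComponent (⟨x, hn⟩ : G),
        ⟨irreducibleComponent_mem_irreducibleComponents _, ⟨x, hn⟩, mem_irreducibleComponent,
          hxc⟩, ⟨x, hn⟩, mem_irreducibleComponent, rfl⟩
  have : IsLocallyNoetherian C := LocallyOfFiniteType.isLocallyNoetherian (ρ ≫ q)
  let C' : Scheme.{u} := Ω
  have : Nonempty C' := ⟨⟨c, hcΩ⟩⟩
  have : IsIntegral C' := isIntegral_of_isOpenImmersion Ω.ι
  let c' : C' := ⟨c, hcΩ⟩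
  have hc' : IsClosed ({c'} : Set C') := by
    convert hclosed.preimage Ω.ι.continuous
    ext v
    exact ⟨fun h ↦ by obtain rfl := h; rfl, fun h ↦ Subtype.ext h⟩
  have hdim' : ringKrullDim (C'.presheaf.stalk c') = 1 := by
    rw [ringKrullDim_eq_of_ringEquiv (Ω.stalkIso c').commRingCatIsoToRingEquiv]
    exact hdim
  have hnorm' : ∀ x : C', IsIntegrallyClosed (C'.presheaf.stalk x) := fun x ↦
    have := hnorm x.1
    IsIntegrallyClosed.of_equiv (Ω.stalkIso x).commRingCatIsoToRingEquiv.symm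
  let U : C'.Opens := ⟨{c'}ᶜ, hc'.isOpen_compl⟩
  obtain ⟨k, hk⟩ := exists_punctured_lift hdim' U rfl
  have hU : Set.range (U.ι ≫ Ω.ι) ⊆ Set.range pm.domain.ι := by
    rw [Scheme.Opens.range_ι]
    rintro _ ⟨v, rfl⟩
    rw [Scheme.Hom.comp_apply]
    exact hΩ _ (U.ι v).2 fun e ↦ v.2 (Subtype.ext e)
  let u : (U : Scheme.{u}) ⟶ X := IsOpenImmersion.lift pm.domain.ι (U.ι ≫ Ω.ι) hU ≫ pm.hom
  obtain ⟨l, hl₁, hl₂⟩ := H C' (Ω.ι ≫ ρ ≫ q) hnorm' c' hc' hdim' U rfl u (Ω.ι ≫ ρ)
    (by rw [Category.assoc]) (by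
      simp only [u, Category.assoc, hpm, pm]
      rw [IsOpenImmersion.lift_fac_assoc, Category.assoc]) k hk
  -- the lift specializes a point of `Z` to a point over `z`
  let A := C'.presheaf.stalk c'
  let pt : Spec (CommRingCat.of (FractionRing A)) := IsLocalRing.closedPoint (FractionRing A)
  let xc := l (IsLocalRing.closedPoint A)
  have hxc : f xc = hV.fromSpec z := by
    rw [← hρc, ← Scheme.Hom.comp_apply, hl₁, Scheme.Hom.comp_apply, Scheme.fromSpecStalk_closedPoint,
      Scheme.Hom.comp_apply]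
    rfl
  have hxZ : xc ∈ Z := by
    have h1 : (k ≫ u) pt ⤳ xc := by
      rw [← hl₂, Scheme.Hom.comp_apply]
      exact (IsLocalRing.specializes_closedPoint (R := A) _).map l.continuous
    refine h1.mem_closed hZ ?_
    let d := IsOpenImmersion.lift pm.domain.ι (U.ι ≫ Ω.ι) hU
    have hgen : d (k pt) = ⟨genericPoint C, hηdom⟩ := by
      apply pm.domain.ι.isOpenEmbedding.injective
      rw [← Scheme.Hom.comp_apply, IsOpenImmersion.lift_fac, Scheme.Hom.comp_apply,
        ← Scheme.Hom.comp_apply (x := pt), hk]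
      obtain ⟨e, he⟩ := exists_fractionRing_hom c'
      rw [he, Scheme.Hom.comp_apply]
      have : Subsingleton (Spec C'.functionField) :=
        inferInstanceAs (Subsingleton (PrimeSpectrum C'.functionField))
      rw [Subsingleton.elim (e pt) (IsLocalRing.closedPoint _), Scheme.fromSpecStalk_closedPoint]
      exact genericPoint_eq_of_isOpenImmersion Ω.ι
    have h2 : pm.fromSpecStalkOfMem hηdom = φ :=
      Scheme.PartialMap.fromSpecStalkOfMem_ofFromSpecStalk ρ f φ hφ
    have h3 := congrArg (fun m ↦ m.base (IsLocalRing.closedPoint (C.presheaf.stalk (genericPoint C)))) h2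
    simp only [Scheme.PartialMap.fromSpecStalkOfMem, Scheme.Hom.comp_apply, φ] at h3
    show pm.hom (d (k pt)) ∈ Z
    rw [hgen]
    show pm.hom _ ∈ Z
    refine Set.mem_of_eq_of_mem (Eq.trans ?_ h3) (by rw [Scheme.fromSpecResidueField_apply]; exact htZ)
    congr 1
    apply pm.domain.ι.isOpenEmbedding.injective
    rw [← Scheme.Hom.comp_apply]
    erw [Scheme.Opens.fromSpecStalkOfMem_ι, Scheme.fromSpecStalk_closedPoint]
    rfl
  exact hzT ⟨xc, hxZ, hxc⟩

theorem universallyClosed_of_curveExistence (hS : ∀ W : S.affineOpens, CAlg.IsNagata Γ(S, W))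
    (p : X ⟶ S) (q : Y ⟶ S) [LocallyOfFiniteType p] [LocallyOfFiniteType q] (f : X ⟶ Y)
    (hf : f ≫ q = p) [QuasiCompact f] (H : CurveExistence q f) : UniversallyClosed f := by
  have : LocallyOfFiniteType (f ≫ q) := hf ▸ inferInstance
  have : LocallyOfFiniteType f := locallyOfFiniteType_of_comp f q
  refine universallyClosed_of_affineSpace f fun n ↦ ?_
  let π : 𝔸(ULift.{u} (Fin n); Y) ⟶ Y := 𝔸(ULift.{u} (Fin n); Y) ↘ Y
  refine isClosedMap_of_curveExistence hS (π ≫ q) (pullback.snd f π) ?_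
  intro C r _ _ _ hnorm c hc hdim U hU u g hg hu k hk
  obtain ⟨l, hl₁, hl₂⟩ := H C r hnorm c hc hdim U hU (u ≫ pullback.fst f π) (g ≫ π)
    (by rw [Category.assoc, hg]) (by rw [Category.assoc, pullback.condition, reassoc_of% hu]) k hk
  refine ⟨pullback.lift l (C.fromSpecStalk c ≫ g) (by rw [hl₁, Category.assoc]),
    pullback.lift_snd _ _ _, ?_⟩
  apply pullback.hom_ext
  · rw [Category.assoc, pullback.lift_fst, hl₂, Category.assoc]
  · rw [Category.assoc, pullback.lift_snd, Category.assoc, hu, reassoc_of% hk]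

end NormFinLib
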