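import Groth.Agent.NormFin.Curve
import Groth.Agent.DvrDom.Points

/-!
# Normal curves through immediate specializations over a Nagata scheme
-/

set_option autoImplicit false

universe u

open CategoryTheory Limits AlgebraicGeometry DvrDomLib

namespace NormFinLib

/-- The kernel of evaluation at a point of an affine open corresponds to that point. -/
theorem fromSpec_ker {X : Scheme.{u}} {W : X.Opens} (hW : IsAffineOpen W) (x : X) {F : Type u}
    [Field F] (φ : Γ(X, W) ⟶ CommRingCat.of F) (g : Spec (CommRingCat.of F) ⟶ X)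
    (h : Spec.map φ ≫ hW.fromSpec = g) (hg : g (IsLocalRing.closedPoint F) = x) :
    hW.fromSpec ⟨RingHom.ker φ.hom, RingHom.ker_isPrime _⟩ = x := by
  subst h
  rw [← hg, Scheme.Hom.comp_apply]
  congr 1
  apply PrimeSpectrum.ext
  show RingHom.ker φ.hom = Ideal.comap φ.hom (IsLocalRing.maximalIdeal F)
  rw [IsLocalRing.maximalIdeal_eq_bot]
  rfl

/-- Every element of a residue field is a fraction of values of sections over an affine open. -/
theorem exists_resEval_div {X : Scheme.{u}} {W : X.Opens} (hW : IsAffineOpen W) (x : X)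
    (hx : x ∈ W) (ξ : X.residueField x) :
    ∃ a b : Γ(X, W), (resEval (𝟙 X) x W hx).hom b ≠ 0 ∧
      ξ = (resEval (𝟙 X) x W hx).hom a / (resEval (𝟙 X) x W hx).hom b := by
  have hres : ∀ c : Γ(X, W), (resEval (𝟙 X) x W hx).hom c =
      (X.residue x).hom ((X.presheaf.germ W x hx).hom c) := by
    intro c
    show (X.residue x).hom (((𝟙 X : X ⟶ X).stalkMap x).hom ((X.presheaf.germ W x hx).hom c)) = _
    rw [Scheme.Hom.stalkMap_id]
    rfl
  obtain ⟨σ, rfl⟩ := X.residue_surjective x ξ
  let _ := (X.presheaf.germ W x hx).hom.toAlgebra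
  have : IsLocalization.AtPrime (X.presheaf.stalk x) (hW.primeIdealOf ⟨x, hx⟩).asIdeal :=
    hW.isLocalization_stalk ⟨x, hx⟩
  obtain ⟨⟨a, b⟩, hab⟩ :=
    IsLocalization.surj (hW.primeIdealOf ⟨x, hx⟩).asIdeal.primeCompl σ
  have hb : IsUnit ((X.presheaf.germ W x hx).hom b) :=
    IsLocalization.map_units (X.presheaf.stalk x) b
  have hb0 : (resEval (𝟙 X) x W hx).hom b ≠ 0 := by
    rw [hres]
    exact (hb.map (X.residue x).hom).ne_zero
  refine ⟨a, b, hb0, ?_⟩
  rw [eq_div_iff hb0, hres, hres, ← map_mul]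
  exact congrArg (X.residue x).hom hab

/-- The function field of the spectrum of a domain is any fraction field. -/
theorem exists_functionField_hom (R : CommRingCat.{u}) [IsDomain R] (L : Type u) [Field L]
    [Algebra R L] [IsFractionRing R L] :
    ∃ θ : Spec (Spec R).functionField ⟶ Spec (CommRingCat.of L),
      (Spec R).fromSpecStalk (genericPoint (Spec R)) =
        θ ≫ Spec.map (CommRingCat.ofHom (algebraMap R L)) := by
  let e : L ≃ₐ[R] (Spec R).functionField := IsLocalization.algEquiv (nonZeroDivisors R) _ _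
  refine ⟨Spec.map (CommRingCat.ofHom e.toRingEquiv.toRingHom), ?_⟩
  rw [Spec.fromSpecStalk_eq', ← Spec.map_comp]
  congr 1
  ext a
  exact (e.commutes a).symm

/-- Local rings of the spectrum of a ring are localizations. -/
noncomputable def stalkEquivLocalization (R : CommRingCat.{u}) (x : PrimeSpectrum R) :
    (Spec R).presheaf.stalk x ≃+* Localization.AtPrime x.asIdeal :=
  (IsLocalization.algEquiv x.asIdeal.primeCompl ((Spec.structureSheaf R).presheaf.stalk x)
    (Localization.AtPrime x.asIdeal)).toRingEquiv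

/-- Through an immediate specialization `w ⤳ z` with `z` locally closed on a scheme of finite type
over a Nagata scheme there passes a normal curve with prescribed function field. -/
theorem exists_curve {S P : Scheme.{u}} (hS : ∀ W : S.affineOpens, CAlg.IsNagata Γ(S, W))
    (π : P ⟶ S) [LocallyOfFiniteType π] {w z : P} (hwz : w ⤳ z) (hne : w ≠ z)
    (himm : ∀ v : P, w ⤳ v → v ⤳ z → v = w ∨ v = z)
    (W : P.Opens) (hzW : z ∈ W) (hzc : ∀ v ∈ W, z ⤳ v → v = z)
    (L : Type u) [Field L] (ι : P.residueField w ⟶ CommRingCat.of L) (hι : ι.hom.Finite) :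
    ∃ (C : Scheme.{u}) (ρ : C ⟶ P) (_ : IsIntegral C) (_ : IsAffine C) (c : C)
      (θ : Spec C.functionField ⟶ Spec (CommRingCat.of L)),
      LocallyOfFiniteType (ρ ≫ π) ∧ QuasiCompact (ρ ≫ π) ∧
      (∀ x : C, IsIntegrallyClosed (C.presheaf.stalk x)) ∧ IsClosed ({c} : Set C) ∧
      ringKrullDim (C.presheaf.stalk c) = 1 ∧ ρ c = z ∧
      C.fromSpecStalk (genericPoint C) ≫ ρ = θ ≫ Spec.map ι ≫ P.fromSpecResidueField w := by
  obtain ⟨_, ⟨U, hU, rfl⟩, hzU, -⟩ := S.isBasis_affineOpens.exists_subset_of_mem_open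
    (Set.mem_univ (π z)) isOpen_univ
  have hU : IsAffineOpen U := hU
  obtain ⟨_, ⟨V, hV, rfl⟩, hzV, hVle⟩ := P.isBasis_affineOpens.exists_subset_of_mem_open
    (show z ∈ ((W ⊓ π ⁻¹ᵁ U : P.Opens) : Set P) from ⟨hzW, hzU⟩) (W ⊓ π ⁻¹ᵁ U).isOpen
  have hV : IsAffineOpen V := hV
  have hVU : V ≤ π ⁻¹ᵁ U := fun x hx ↦ (hVle hx).2
  have hwV : w ∈ V := hwz.mem_open V.isOpen hzV
  obtain ⟨hnoeth, hN⟩ := hS ⟨U, hU⟩
  let ψ : Γ(P, V) ⟶ P.residueField w := resEval (𝟙 P) w V hwV
  let φ : Γ(P, V) ⟶ CommRingCat.of L := ψ ≫ ι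
  have hφ : Spec.map φ ≫ hV.fromSpec = Spec.map ι ≫ P.fromSpecResidueField w := by
    simp only [φ, ψ, Spec.map_comp, Category.assoc, specMap_resEval, Category.comp_id]
  let q := RingHom.ker φ.hom
  have : q.IsPrime := RingHom.ker_isPrime _
  have hq : hV.fromSpec ⟨q, inferInstance⟩ = w := fromSpec_ker hV w φ _ hφ (by
    rw [Scheme.Hom.comp_apply, Scheme.fromSpecResidueField_apply])
  have hspec : ∀ a b : PrimeSpectrum Γ(P, V), a.asIdeal ≤ b.asIdeal ↔
      hV.fromSpec a ⤳ hV.fromSpec b := fun a b ↦ by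
    rw [hV.fromSpec.isOpenEmbedding.isInducing.specializes_iff]
    exact PrimeSpectrum.le_iff_specializes a b
  have hinj := hV.fromSpec.isOpenEmbedding.injective
  let zp : PrimeSpectrum Γ(P, V) := hV.primeIdealOf ⟨z, hzV⟩
  have hzp : hV.fromSpec zp = z := hV.fromSpec_primeIdealOf ⟨z, hzV⟩
  have hmax : zp.asIdeal.IsMaximal := by
    obtain ⟨M, hM, hle⟩ := Ideal.exists_le_maximal zp.asIdeal zp.2.ne_top
    have h1 : z ⤳ hV.fromSpec ⟨M, hM.isPrime⟩ := by
      rw [← hzp]; exact (hspec zp ⟨M, hM.isPrime⟩).mp hle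
    have h2 : hV.fromSpec ⟨M, hM.isPrime⟩ ∈ V := by
      rw [← SetLike.mem_coe, ← hV.range_fromSpec]; exact Set.mem_range_self _
    have h3 := hzc _ (hVle h2).1 h1
    rw [← hzp] at h3
    have h4 : M = zp.asIdeal := congrArg PrimeSpectrum.asIdeal (hinj h3)
    rwa [← h4]
  have hqz : q ≤ zp.asIdeal := (hspec ⟨q, inferInstance⟩ zp).mpr (by rw [hq, hzp]; exact hwz)
  let B := Γ(P, V) ⧸ q
  let zb : Ideal B := zp.asIdeal.map (Ideal.Quotient.mk q)
  have hzb : zb.comap (Ideal.Quotient.mk q) = zp.asIdeal := Ideal.comap_map_mk hqz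
  have : zb.IsMaximal := Ideal.IsMaximal.map_of_surjective_of_ker_le Ideal.Quotient.mk_surjective
    (by rwa [Ideal.mk_ker])
  have hzb0 : zb ≠ ⊥ := by
    intro h
    refine hne ?_
    have h1 : zp = ⟨q, inferInstance⟩ := PrimeSpectrum.ext (by
      rw [← hzb, h, ← RingHom.ker_eq_comap_bot, Ideal.mk_ker])
    rw [← hq, ← h1, hzp]
  have himm' : ∀ I : Ideal B, I.IsPrime → I ≤ zb → I = ⊥ ∨ I = zb := by
    intro I hI hIz
    let v : PrimeSpectrum Γ(P, V) := ⟨I.comap (Ideal.Quotient.mk q), inferInstance⟩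
    have h1 : q ≤ v.asIdeal := fun a ha ↦ by
      show Ideal.Quotient.mk q a ∈ I
      rw [Ideal.Quotient.eq_zero_iff_mem.mpr ha]
      exact I.zero_mem
    have h2 : v.asIdeal ≤ zp.asIdeal := hzb ▸ Ideal.comap_mono hIz
    have hs1 : w ⤳ hV.fromSpec v := hq ▸ (hspec ⟨q, inferInstance⟩ v).mp h1
    have hs2 : hV.fromSpec v ⤳ z := hzp ▸ (hspec v zp).mp h2
    rcases himm _ hs1 hs2 with h | h
    · left
      have h3 : v.asIdeal = q := congrArg PrimeSpectrum.asIdeal (hinj (h.trans hq.symm))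
      rw [← Ideal.map_comap_of_surjective _ Ideal.Quotient.mk_surjective I]
      show v.asIdeal.map _ = ⊥
      rw [h3, Ideal.map_quotient_self]
    · right
      have h3 : v.asIdeal = zp.asIdeal := congrArg PrimeSpectrum.asIdeal (hinj (h.trans hzp.symm))
      rw [← Ideal.map_comap_of_surjective _ Ideal.Quotient.mk_surjective I]
      show v.asIdeal.map _ = _
      rw [h3]
  let _ : Algebra B L := (Ideal.Quotient.lift q φ.hom fun _ h ↦ h).toAlgebra
  have hBL : Function.Injective (algebraMap B L) :=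
    RingHom.lift_injective_of_ker_le_ideal q (fun _ h ↦ h) le_rfl
  have hfin : ∀ (K : Type u) [Field K] [Algebra B K] [IsFractionRing B K] [Algebra K L]
      [IsScalarTower B K L], FiniteDimensional K L := by
    intro K _ _ _ _ _
    let _ : Algebra (P.residueField w) L := ι.hom.toAlgebra
    have : Module.Finite (P.residueField w) L := hι
    obtain ⟨t, ht⟩ := Module.Finite.fg_top (R := P.residueField w) (M := L)
    refine ⟨⟨t, eq_top_iff.mpr fun x hxtop ↦ ?_⟩⟩
    clear hxtop
    have hx : x ∈ Submodule.span (P.residueField w) (t : Set L) := ht ▸ trivial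
    induction hx using Submodule.span_induction with
    | mem x hx => exact Submodule.subset_span hx
    | zero => exact zero_mem _
    | add x y _ _ hx hy => exact add_mem hx hy
    | smul a x _ hx =>
      obtain ⟨m, n, -, rfl⟩ := exists_resEval_div hV w hwV a
      have e : ∀ c : Γ(P, V), ι.hom (ψ.hom c) =
          algebraMap K L (algebraMap B K (Ideal.Quotient.mk q c)) := fun c ↦ by
        rw [← IsScalarTower.algebraMap_apply]
        rfl
      have : (ψ.hom m / ψ.hom n) • x = (algebraMap B K (Ideal.Quotient.mk q m) /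
          algebraMap B K (Ideal.Quotient.mk q n)) • x := by
        rw [Algebra.smul_def, Algebra.smul_def, map_div₀ (algebraMap K L), ← e, ← e]
        show ι.hom _ * x = _
        rw [map_div₀]
      rw [show (ψ.hom m / ψ.hom n) • x = _ from this]
      exact Submodule.smul_mem _ _ hx
  let _ : Algebra Γ(S, U) Γ(P, V) := (π.appLE U V hVU).hom.toAlgebra
  have hft : Algebra.FiniteType Γ(S, U) Γ(P, V) :=
    LocallyOfFiniteType.finiteType_appLE π hU hV hVU
  have : Algebra.FiniteType Γ(S, U) B :=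
    .of_surjective (Ideal.Quotient.mkₐ Γ(S, U) q) Ideal.Quotient.mk_surjective
  have : IsNoetherianRing Γ(S, U) := hnoeth
  obtain ⟨D, _, _, _, aDL, _, hDft, hDn, hDL, c, hc, hcz, hcdvr⟩ :=
    exists_normal_model hN zb hzb0 himm' hBL hfin
  let g : Γ(P, V) ⟶ CommRingCat.of D :=
    CommRingCat.ofHom ((algebraMap B D).comp (Ideal.Quotient.mk q))
  let C := Spec (CommRingCat.of D)
  let ρ : C ⟶ P := Spec.map g ≫ hV.fromSpec
  have hρc : ρ ⟨c, hc.isPrime⟩ = z := by
    rw [Scheme.Hom.comp_apply, ← hzp]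
    congr 1
    apply PrimeSpectrum.ext
    show Ideal.comap g.hom c = zp.asIdeal
    rw [← hzb, ← hcz]
    rfl
  have hg : g.hom.FiniteType :=
    RingHom.FiniteType.comp (RingHom.finiteType_algebraMap.mpr hDft)
      (RingHom.FiniteType.of_surjective _ Ideal.Quotient.mk_surjective)
  have : LocallyOfFiniteType (Spec.map g) := HasRingHomProperty.Spec_iff.mpr hg
  have hρπ : ρ ≫ π = Spec.map (π.appLE U V hVU ≫ g) ≫ hU.fromSpec := by
    rw [Spec.map_comp, Category.assoc, Category.assoc,
      IsAffineOpen.SpecMap_appLE_fromSpec π hU hV hVU]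
  have : LocallyOfFiniteType (ρ ≫ π) := by dsimp only [ρ]; infer_instance
  have : QuasiCompact (ρ ≫ π) := by
    have : IsLocallyNoetherian S := ⟨fun W ↦ (hS W).1⟩
    infer_instance
  have : IsDomain (CommRingCat.of D) := ‹IsDomain D›
  have hnorm : ∀ x : C, IsIntegrallyClosed (C.presheaf.stalk x) := by
    intro x
    have : IsIntegrallyClosed (CommRingCat.of D) := hDn
    have : IsIntegrallyClosed (Localization.AtPrime x.asIdeal) :=
      isIntegrallyClosed_of_isLocalization _ x.asIdeal.primeCompl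
        x.asIdeal.primeCompl_le_nonZeroDivisors
    exact IsIntegrallyClosed.of_equiv (stalkEquivLocalization (CommRingCat.of D) x).symm
  have hdim : ringKrullDim (C.presheaf.stalk ⟨c, hc.isPrime⟩) = 1 := by
    show ringKrullDim ((Spec (CommRingCat.of D)).presheaf.stalk
      (⟨c, hc.isPrime⟩ : PrimeSpectrum (CommRingCat.of D))) = 1
    rw [ringKrullDim_eq_of_ringEquiv (stalkEquivLocalization (CommRingCat.of D) _)]
    exact IsDiscreteValuationRing.ringKrullDim_eq_one (R := Localization.AtPrime c)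
  let _ : Algebra (CommRingCat.of D) L := aDL
  have : IsFractionRing (CommRingCat.of D) L := hDL
  obtain ⟨θ, hθ⟩ := exists_functionField_hom (CommRingCat.of D) L
  refine ⟨C, ρ, inferInstance, inferInstance, ⟨c, hc.isPrime⟩, θ, inferInstance, inferInstance,
    hnorm, (PrimeSpectrum.isClosed_singleton_iff_isMaximal _).mpr hc, hdim, hρc, ?_⟩
  rw [← hφ]
  show (Spec (CommRingCat.of D)).fromSpecStalk _ ≫ Spec.map g ≫ hV.fromSpec = _
  rw [hθ, Category.assoc, ← Spec.map_comp_assoc]
  congr 3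
  ext a
  exact (IsScalarTower.algebraMap_apply B D L _).symm

end NormFinLib
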